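/-
Counting in Steiner systems: blocks through a set and intersection moments.
-/
import Mathlib
import Cfsg.Prelude.Def_Sporadic_a

set_option autoImplicit false

namespace CfsgLib.Steiner

open Cfsg

variable {α : Type*} [Fintype α] [DecidableEq α] {t k : ℕ} {B : Set (Finset α)}

/-- The blocks as a finite family. -/
noncomputable def blocks (B : Set (Finset α)) : Finset (Finset α) := (Set.toFinite B).toFinset

theorem mem_blocks {b : Finset α} : b ∈ blocks B ↔ b ∈ B := by simp [blocks]

/-- The number of blocks meeting `Y` in `j` points. -/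
noncomputable def meet (B : Set (Finset α)) (Y : Finset α) (j : ℕ) : ℕ :=
  ((blocks B).filter fun c => (c ∩ Y).card = j).card

theorem ncard_meet (Y : Finset α) (j : ℕ) :
    {c : Finset α | c ∈ B ∧ (c ∩ Y).card = j}.ncard = meet B Y j := by
  rw [meet, ← Set.ncard_coe_finset]
  refine congrArg Set.ncard (Set.ext fun c => ?_)
  simp [mem_blocks]

omit [Fintype α] in
theorem card_supersets {X b : Finset α} (hX : X ⊆ b) {n : ℕ} (hn : X.card ≤ n) :
    ((b.powersetCard n).filter (X ⊆ ·)).card = Nat.choose (b.card - X.card) (n - X.card) := by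
  rw [← Finset.card_sdiff_of_subset hX, ← Finset.card_powersetCard]
  refine Finset.card_bij' (fun s _ => s \ X) (fun s _ => s ∪ X) ?_ ?_ ?_ ?_
  · intro s hs
    simp only [Finset.mem_filter, Finset.mem_powersetCard] at hs
    rw [Finset.mem_powersetCard, Finset.card_sdiff_of_subset hs.2, hs.1.2]
    exact ⟨Finset.sdiff_subset_sdiff hs.1.1 subset_rfl, rfl⟩
  · intro s hs
    simp only [Finset.mem_powersetCard] at hs
    have hd : Disjoint s X := Finset.disjoint_of_subset_left hs.1 Finset.sdiff_disjoint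
    simp only [Finset.mem_filter, Finset.mem_powersetCard]
    refine ⟨⟨Finset.union_subset (hs.1.trans Finset.sdiff_subset) hX, ?_⟩, Finset.subset_union_right⟩
    rw [Finset.card_union_of_disjoint hd, hs.2]; omega
  · intro s hs
    simp only [Finset.mem_filter] at hs
    exact Finset.sdiff_union_of_subset hs.2
  · intro s hs
    simp only [Finset.mem_powersetCard] at hs
    exact Finset.union_sdiff_cancel_right (Finset.disjoint_of_subset_left hs.1 Finset.sdiff_disjoint)

theorem unique_block (hB : IsSteinerSystem t k B) {b c : Finset α} (hb : b ∈ B) (hc : c ∈ B)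
    (h : t ≤ (b ∩ c).card) : b = c := by
  obtain ⟨s, hs, hsc⟩ := Finset.exists_subset_card_eq h
  exact (hB.2 s hsc).unique ⟨hb, hs.trans Finset.inter_subset_left⟩
    ⟨hc, hs.trans Finset.inter_subset_right⟩

theorem card_containing (hB : IsSteinerSystem t k B) {X : Finset α} (hX : X.card ≤ t) :
    ((blocks B).filter (X ⊆ ·)).card * Nat.choose (k - X.card) (t - X.card) =
      Nat.choose (Fintype.card α - X.card) (t - X.card) := by
  rw [← Finset.card_univ, ← card_supersets (Finset.subset_univ X) hX]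
  have hcov : ((Finset.univ : Finset α).powersetCard t).filter (X ⊆ ·) =
      ((blocks B).filter (X ⊆ ·)).biUnion fun b => (b.powersetCard t).filter (X ⊆ ·) := by
    ext s
    simp only [Finset.mem_filter, Finset.mem_biUnion, Finset.mem_powersetCard, mem_blocks,
      Finset.subset_univ, true_and]
    constructor
    · rintro ⟨hs, hXs⟩
      obtain ⟨b, ⟨hb, hsb⟩, -⟩ := hB.2 s hs
      exact ⟨b, ⟨hb, hXs.trans hsb⟩, ⟨hsb, hs⟩, hXs⟩
    · rintro ⟨b, -, ⟨-, hs⟩, hXs⟩
      exact ⟨hs, hXs⟩
  rw [hcov, Finset.card_biUnion, Finset.sum_congr rfl (g := fun _ => Nat.choose (k - X.card) (t - X.card)),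
    Finset.sum_const, smul_eq_mul]
  · intro b hb
    simp only [Finset.mem_filter, mem_blocks] at hb
    rw [card_supersets hb.2 hX, hB.1 b hb.1]
  · intro b hb c hc hbc
    refine Finset.disjoint_left.2 fun s hs hs' => hbc ?_
    simp only [Finset.mem_coe, Finset.mem_filter, Finset.mem_powersetCard, mem_blocks] at hb hc hs hs'
    exact (hB.2 s hs.1.2).unique ⟨hb.1, hs.1.1⟩ ⟨hc.1, hs'.1.1⟩

theorem sum_fiber (Y : Finset α) (f : ℕ → ℕ) :
    ∑ c ∈ blocks B, f (c ∩ Y).card = ∑ j ∈ Finset.range (Y.card + 1), meet B Y j * f j := by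
  rw [← Finset.sum_fiberwise_of_maps_to (g := fun c => (c ∩ Y).card) (t := Finset.range (Y.card + 1))]
  · refine Finset.sum_congr rfl fun j _ => ?_
    rw [Finset.sum_congr rfl (g := fun _ => f j) (fun c hc => by rw [(Finset.mem_filter.1 hc).2]),
      Finset.sum_const, smul_eq_mul, meet]
  · intro c _
    exact Finset.mem_range.2 (Nat.lt_succ_of_le (Finset.card_le_card Finset.inter_subset_right))

/-- The intersection moments of a set. -/
theorem moments (hB : IsSteinerSystem t k B) (Y : Finset α) {i : ℕ} (hi : i ≤ t) :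
    (∑ j ∈ Finset.range (Y.card + 1), meet B Y j * Nat.choose j i) * Nat.choose (k - i) (t - i) =
      Nat.choose Y.card i * Nat.choose (Fintype.card α - i) (t - i) := by
  rw [← sum_fiber Y (Nat.choose · i)]
  have h1 : ∀ c : Finset α, Nat.choose (c ∩ Y).card i =
      ∑ s ∈ Y.powersetCard i, if s ⊆ c then 1 else 0 := by
    intro c
    rw [← Finset.card_powersetCard, ← Finset.card_filter]
    refine congrArg Finset.card (Finset.ext fun s => ?_)
    simp only [Finset.mem_powersetCard, Finset.mem_filter, Finset.subset_inter_iff]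
    tauto
  rw [Finset.sum_congr rfl fun c _ => h1 c, Finset.sum_comm, Finset.sum_mul,
    Finset.sum_congr rfl (g := fun _ => Nat.choose (Fintype.card α - i) (t - i)), Finset.sum_const,
    Finset.card_powersetCard, smul_eq_mul]
  intro s hs
  rw [Finset.mem_powersetCard] at hs
  rw [← Finset.card_filter, ← hs.2]
  exact card_containing hB (hs.2.symm ▸ hi)

theorem meet_eq_zero (hB : IsSteinerSystem t k B) {b : Finset α} (hb : b ∈ B) {j : ℕ} (h1 : t ≤ j)
    (h2 : j ≠ k) : meet B b j = 0 := by
  rw [meet, Finset.card_eq_zero, Finset.filter_eq_empty_iff]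
  intro c hc e
  rw [mem_blocks] at hc
  have := unique_block hB hc hb (e ▸ h1)
  subst this
  rw [Finset.inter_self, hB.1 c hc] at e
  exact h2 e.symm

theorem meet_self (hB : IsSteinerSystem t k B) {b : Finset α} (hb : b ∈ B) (hk : t ≤ k) :
    meet B b k = 1 := by
  rw [meet, Finset.card_eq_one]
  refine ⟨b, Finset.eq_singleton_iff_unique_mem.2
    ⟨Finset.mem_filter.2 ⟨mem_blocks.2 hb, by rw [Finset.inter_self, hB.1 b hb]⟩, fun c hc => ?_⟩⟩
  obtain ⟨hc1, hc2⟩ := Finset.mem_filter.1 hc
  exact unique_block hB (mem_blocks.1 hc1) hb (hc2.symm ▸ hk)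

theorem meet_pos {Y c : Finset α} (hc : c ∈ B) : 0 < meet B Y (c ∩ Y).card :=
  Finset.card_pos.2 ⟨c, Finset.mem_filter.2 ⟨mem_blocks.2 hc, rfl⟩⟩

/-- Blocks of an S(5,8,24) against a block. -/
theorem meet_24 (hB : IsSteinerSystem 5 8 B) (hα : Fintype.card α = 24) {b : Finset α} (hb : b ∈ B) :
    meet B b 0 = 30 ∧ meet B b 1 = 0 ∧ meet B b 2 = 448 ∧ meet B b 3 = 0 ∧ meet B b 4 = 280 ∧
      meet B b 5 = 0 ∧ meet B b 6 = 0 ∧ meet B b 7 = 0 ∧ meet B b 8 = 1 := by
  have m0 := moments hB b (i := 0) (by omega)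
  have m1 := moments hB b (i := 1) (by omega)
  have m2 := moments hB b (i := 2) (by omega)
  have m3 := moments hB b (i := 3) (by omega)
  have m4 := moments hB b (i := 4) (by omega)
  have z5 := meet_eq_zero hB hb (j := 5) (by omega) (by omega)
  have z6 := meet_eq_zero hB hb (j := 6) (by omega) (by omega)
  have z7 := meet_eq_zero hB hb (j := 7) (by omega) (by omega)
  have z8 := meet_self hB hb (by omega)
  simp [hB.1 b hb, hα, Finset.sum_range_succ, Nat.choose_eq_descFactorial_div_factorial,
    Nat.descFactorial_succ, Nat.factorial, z5, z6, z7, z8] at m0 m1 m2 m3 m4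
  omega

/-- Blocks of an S(4,7,23) against a block. -/
theorem meet_23 (hB : IsSteinerSystem 4 7 B) (hα : Fintype.card α = 23) {b : Finset α} (hb : b ∈ B) :
    meet B b 0 = 0 ∧ meet B b 1 = 112 ∧ meet B b 2 = 0 ∧ meet B b 3 = 140 ∧ meet B b 4 = 0 ∧
      meet B b 5 = 0 ∧ meet B b 6 = 0 ∧ meet B b 7 = 1 := by
  have m0 := moments hB b (i := 0) (by omega)
  have m1 := moments hB b (i := 1) (by omega)
  have m2 := moments hB b (i := 2) (by omega)
  have m3 := moments hB b (i := 3) (by omega)
  have z4 := meet_eq_zero hB hb (j := 4) (by omega) (by omega)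
  have z5 := meet_eq_zero hB hb (j := 5) (by omega) (by omega)
  have z6 := meet_eq_zero hB hb (j := 6) (by omega) (by omega)
  have z7 := meet_self hB hb (by omega)
  simp [hB.1 b hb, hα, Finset.sum_range_succ, Nat.choose_eq_descFactorial_div_factorial,
    Nat.descFactorial_succ, Nat.factorial, z4, z5, z6, z7] at m0 m1 m2 m3
  omega

/-- Blocks of an S(3,6,22) against a block. -/
theorem meet_22 (hB : IsSteinerSystem 3 6 B) (hα : Fintype.card α = 22) {b : Finset α} (hb : b ∈ B) :
    meet B b 0 = 16 ∧ meet B b 1 = 0 ∧ meet B b 2 = 60 ∧ meet B b 3 = 0 ∧ meet B b 4 = 0 ∧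
      meet B b 5 = 0 ∧ meet B b 6 = 1 := by
  have m0 := moments hB b (i := 0) (by omega)
  have m1 := moments hB b (i := 1) (by omega)
  have m2 := moments hB b (i := 2) (by omega)
  have z3 := meet_eq_zero hB hb (j := 3) (by omega) (by omega)
  have z4 := meet_eq_zero hB hb (j := 4) (by omega) (by omega)
  have z5 := meet_eq_zero hB hb (j := 5) (by omega) (by omega)
  have z6 := meet_self hB hb (by omega)
  simp [hB.1 b hb, hα, Finset.sum_range_succ, Nat.choose_eq_descFactorial_div_factorial,
    Nat.descFactorial_succ, Nat.factorial, z3, z4, z5, z6] at m0 m1 m2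
  omega

/-- Blocks of an S(5,6,12) against a block. -/
theorem meet_12 (hB : IsSteinerSystem 5 6 B) (hα : Fintype.card α = 12) {b : Finset α} (hb : b ∈ B) :
    meet B b 0 = 1 ∧ meet B b 1 = 0 ∧ meet B b 2 = 45 ∧ meet B b 3 = 40 ∧ meet B b 4 = 45 ∧
      meet B b 5 = 0 ∧ meet B b 6 = 1 := by
  have m0 := moments hB b (i := 0) (by omega)
  have m1 := moments hB b (i := 1) (by omega)
  have m2 := moments hB b (i := 2) (by omega)
  have m3 := moments hB b (i := 3) (by omega)
  have m4 := moments hB b (i := 4) (by omega)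
  have z5 := meet_eq_zero hB hb (j := 5) (by omega) (by omega)
  have z6 := meet_self hB hb (by omega)
  simp [hB.1 b hb, hα, Finset.sum_range_succ, Nat.choose_eq_descFactorial_div_factorial,
    Nat.descFactorial_succ, Nat.factorial, z5, z6] at m0 m1 m2 m3 m4
  omega

/-- A block meets a block of an S(5,8,24) evenly. -/
theorem inter_cases_24 (hB : IsSteinerSystem 5 8 B) (hα : Fintype.card α = 24) {b c : Finset α}
    (hb : b ∈ B) (hc : c ∈ B) (hbc : b ≠ c) :
    (b ∩ c).card = 0 ∨ (b ∩ c).card = 2 ∨ (b ∩ c).card = 4 := by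
  have hp := meet_pos (Y := b) hc
  rw [Finset.inter_comm] at hp
  obtain ⟨-, h1, -, h3, -⟩ := meet_24 hB hα hb
  have h4 : (b ∩ c).card < 5 := by
    by_contra h
    exact hbc (unique_block hB hb hc (by omega))
  rcases Nat.lt_or_ge (b ∩ c).card 1 with h | h
  · omega
  · interval_cases e : (b ∩ c).card <;> simp_all

end CfsgLib.Steiner
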