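/-
The code spanned by the blocks of an S(5,8,24).
-/
import Cfsg.Agent.Steiner.Count
import Cfsg.Agent.AbsGolay.Basic

set_option autoImplicit false

namespace CfsgLib.Steiner

open Cfsg CfsgLib.AbsGolay
open scoped symmDiff

variable {α : Type*} [Fintype α] [DecidableEq α] {B : Set (Finset α)}

/-- Two blocks meeting in four points have a block as symmetric difference. -/
theorem symmDiff_mem_24 (hB : IsSteinerSystem 5 8 B) (hα : Fintype.card α = 24) {b c : Finset α}
    (hb : b ∈ B) (hc : c ∈ B) (h4 : (b ∩ c).card = 4) : symmDiff b c ∈ B := by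
  classical
  set T := b ∩ c with hT
  set U := b \ c with hU
  set W := c \ b with hW
  have cU : U.card = 4 := by
    have := Finset.card_sdiff_add_card_inter b c
    rw [hB.1 b hb, ← hU, ← hT, h4] at this; omega
  have cW : W.card = 4 := by
    have := Finset.card_sdiff_add_card_inter c b
    rw [hB.1 c hc, ← hW, Finset.inter_comm, ← hT, h4] at this; omega
  obtain ⟨w, hw⟩ := Finset.card_pos.1 (by omega : 0 < W.card)
  have hwb : w ∉ b := (Finset.mem_sdiff.1 hw).2
  have hUb : U ⊆ b := Finset.sdiff_subset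
  have hWc : W ⊆ c := Finset.sdiff_subset
  have hTb : T ⊆ b := Finset.inter_subset_left
  have hTc : T ⊆ c := Finset.inter_subset_right
  obtain ⟨d, ⟨hd, hUd⟩, -⟩ := hB.2 (insert w U)
    (by rw [Finset.card_insert_of_notMem (fun h => hwb (hUb h)), cU])
  obtain ⟨hwd, hUd⟩ := Finset.insert_subset_iff.1 hUd
  have hdb : b ∩ d = U := by
    refine (Finset.eq_of_subset_of_card_le (Finset.subset_inter hUb hUd) ?_).symm
    rcases inter_cases_24 hB hα hb hd (fun e => hwb (e ▸ hwd)) with e | e | e <;> omega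
  have hdT : ∀ x ∈ T, x ∉ d := fun x hx hxd => by
    have h : x ∈ U := hdb ▸ Finset.mem_inter.2 ⟨hTb hx, hxd⟩
    exact (Finset.mem_sdiff.1 h).2 (hTc hx)
  have hdc : c ∩ d = W ∩ d := by
    ext x
    simp only [Finset.mem_inter, hW, Finset.mem_sdiff]
    exact ⟨fun ⟨h1, h2⟩ => ⟨⟨h1, fun hxb => hdT x (Finset.mem_inter.2 ⟨hxb, h1⟩) h2⟩, h2⟩,
      fun ⟨h1, h2⟩ => ⟨h1.1, h2⟩⟩
  have hcd : c ≠ d := fun e => by
    obtain ⟨u, hu⟩ := Finset.card_pos.1 (by omega : 0 < U.card)
    exact (Finset.mem_sdiff.1 hu).2 (e ▸ hUd hu)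
  have hUW : Disjoint U W := Finset.disjoint_left.2 fun x hx hx' =>
    (Finset.mem_sdiff.1 hx).2 (hWc hx')
  have hwd' : 0 < (W ∩ d).card := Finset.card_pos.2 ⟨w, Finset.mem_inter.2 ⟨hw, hwd⟩⟩
  rcases inter_cases_24 hB hα hc hd hcd with e | e | e <;> rw [hdc] at e
  · omega
  swap
  · have hWd : W ⊆ d := Finset.inter_eq_left.1
      (Finset.eq_of_subset_of_card_le Finset.inter_subset_left (by omega))
    have : U ∪ W = d := Finset.eq_of_subset_of_card_le (Finset.union_subset hUd hWd)
      (by rw [Finset.card_union_of_disjoint hUW, hB.1 d hd, cU, cW])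
    rw [symmDiff_def, Finset.sup_eq_union, ← hU, ← hW, this]
    exact hd
  exfalso
  -- the points of `d` outside `U` and `W`
  set R := d \ (U ∪ W) with hR
  have cR : R.card = 2 := by
    have h1 := Finset.card_sdiff_add_card_inter d (U ∪ W)
    rw [hB.1 d hd, Finset.inter_union_distrib_left, Finset.card_union_of_disjoint
      (Finset.disjoint_of_subset_left Finset.inter_subset_right (Finset.disjoint_of_subset_right
        Finset.inter_subset_right hUW)), Finset.inter_eq_right.2 hUd, Finset.inter_comm d W, e, cU, ← hR] at h1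
    omega
  obtain ⟨p, hp⟩ := Finset.card_pos.1 (by omega : 0 < R.card)
  obtain ⟨hpd, hpUW⟩ := Finset.mem_sdiff.1 hp
  have hpb : p ∉ b := fun h => hpUW (Finset.mem_union_left _ (hdb ▸ Finset.mem_inter.2 ⟨h, hpd⟩))
  have hpc : p ∉ c := fun h => by
    have : p ∈ W ∩ d := hdc ▸ Finset.mem_inter.2 ⟨h, hpd⟩
    exact hpUW (Finset.mem_union_right _ (Finset.mem_inter.1 this).1)
  obtain ⟨f, ⟨hf, hTf⟩, -⟩ := hB.2 (insert p T)
    (by rw [Finset.card_insert_of_notMem (fun h => hpb (hTb h)), h4])
  obtain ⟨hpf, hTf⟩ := Finset.insert_subset_iff.1 hTf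
  have hfb : b ∩ f = T := by
    refine (Finset.eq_of_subset_of_card_le (Finset.subset_inter hTb hTf) ?_).symm
    rcases inter_cases_24 hB hα hb hf (fun e => hpb (e ▸ hpf)) with e | e | e <;> omega
  have hfc : c ∩ f = T := by
    refine (Finset.eq_of_subset_of_card_le (Finset.subset_inter hTc hTf) ?_).symm
    rcases inter_cases_24 hB hα hc hf (fun e => hpc (e ▸ hpf)) with e | e | e <;> omega
  have hfd : R ⊆ f := by
    have hsub : d ∩ f ⊆ R := by
      intro x hx
      obtain ⟨hxd, hxf⟩ := Finset.mem_inter.1 hx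
      refine Finset.mem_sdiff.2 ⟨hxd, fun h => hdT x ?_ hxd⟩
      rcases Finset.mem_union.1 h with h | h
      · exact hfb ▸ Finset.mem_inter.2 ⟨hUb h, hxf⟩
      · exact hfc ▸ Finset.mem_inter.2 ⟨hWc h, hxf⟩
    have h1 : 1 ≤ (d ∩ f).card := Finset.card_pos.2 ⟨p, Finset.mem_inter.2 ⟨hpd, hpf⟩⟩
    have hdf : d ≠ f := fun e' => by
      obtain ⟨x, hx⟩ := Finset.card_pos.1 (by omega : 0 < T.card)
      exact hdT x hx (e' ▸ hTf hx)
    have h2 := Finset.card_le_card hsub
    rcases inter_cases_24 hB hα hd hf hdf with e' | e' | e'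
    · omega
    · rw [← Finset.eq_of_subset_of_card_le hsub (by omega)]; exact Finset.inter_subset_right
    · omega
  obtain ⟨T3, hT3, cT3⟩ := Finset.exists_subset_card_eq (s := T) (n := 3) (by omega)
  have hT3w : w ∉ T3 := fun h => hwb (hTb (hT3 h))
  -- the blocks through three points of `T`, one of `U` and `w`
  have five : ∀ u ∈ U, ∃ e, e ∈ B ∧ insert u (insert w T3) ⊆ e ∧ b ∩ e = insert u T3 ∧
      c ∩ e = insert w T3 ∧ ∃ q, q ∈ e ∧ q ∈ f ∧ q ∉ T ∧ q ∉ R := by
    intro u hu
    obtain ⟨hub, huc⟩ := Finset.mem_sdiff.1 hu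
    have hu3 : u ∉ T3 := fun h => huc (hTc (hT3 h))
    have huw : u ≠ w := fun h => hwb (h ▸ hub)
    have c5 : (insert u (insert w T3)).card = 5 := by
      rw [Finset.card_insert_of_notMem (by simp [huw, hu3]), Finset.card_insert_of_notMem hT3w, cT3]
    obtain ⟨g, ⟨hg, hs⟩, -⟩ := hB.2 _ c5
    obtain ⟨hug, hs2⟩ := Finset.insert_subset_iff.1 hs
    obtain ⟨hwg, h3g⟩ := Finset.insert_subset_iff.1 hs2
    have eb : b ∩ g = insert u T3 := by
      refine (Finset.eq_of_subset_of_card_le (Finset.subset_inter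
        (Finset.insert_subset hub (hT3.trans hTb)) (Finset.insert_subset hug h3g)) ?_).symm
      rw [Finset.card_insert_of_notMem hu3, cT3]
      rcases inter_cases_24 hB hα hb hg (fun e => hwb (e ▸ hwg)) with e | e | e <;> omega
    have ec : c ∩ g = insert w T3 := by
      refine (Finset.eq_of_subset_of_card_le (Finset.subset_inter
        (Finset.insert_subset (hWc hw) (hT3.trans hTc)) (Finset.insert_subset hwg h3g)) ?_).symm
      rw [Finset.card_insert_of_notMem hT3w, cT3]
      rcases inter_cases_24 hB hα hc hg (fun e => huc (e ▸ hug)) with e | e | e <;> omega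
    have hgT : g ∩ T = T3 := by
      ext x
      simp only [Finset.mem_inter]
      refine ⟨fun ⟨hxg, hxT⟩ => ?_, fun h => ⟨h3g h, hT3 h⟩⟩
      have h := eb ▸ Finset.mem_inter.2 ⟨hTb hxT, hxg⟩
      rcases Finset.mem_insert.1 h with rfl | h
      · exact absurd (hTc hxT) huc
      · exact h
    have hgf : g ≠ f := fun h => by
      subst h
      exact huc (hTc (hfb ▸ Finset.mem_inter.2 ⟨hub, hug⟩))
    have h3 : T3 ⊆ g ∩ f := Finset.subset_inter h3g (hT3.trans hTf)
    have cgf : (g ∩ f).card = 4 := by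
      have := Finset.card_le_card h3
      rcases inter_cases_24 hB hα hg hf hgf with e | e | e <;> omega
    obtain ⟨q, hq, hq3⟩ := Finset.exists_mem_notMem_of_card_lt_card (s := T3) (t := g ∩ f) (by omega)
    obtain ⟨hqg, hqf⟩ := Finset.mem_inter.1 hq
    refine ⟨g, hg, hs, eb, ec, q, hqg, hqf, fun h => hq3 (hgT ▸ Finset.mem_inter.2 ⟨hqg, h⟩),
      fun hqR => ?_⟩
    obtain ⟨hqd, hqUW⟩ := Finset.mem_sdiff.1 hqR
    have hgd : g ≠ d := fun h => by
      obtain ⟨x, hx⟩ := Finset.card_pos.1 (by omega : 0 < T3.card)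
      exact hdT x (hT3 hx) (h ▸ h3g hx)
    have hsub2 : {u, w, q} ⊆ g ∩ d := by
      intro x hx
      simp only [Finset.mem_insert, Finset.mem_singleton] at hx
      rcases hx with rfl | rfl | rfl
      exacts [Finset.mem_inter.2 ⟨hug, hUd hu⟩, Finset.mem_inter.2 ⟨hwg, hwd⟩,
        Finset.mem_inter.2 ⟨hqg, hqd⟩]
    have hsup : g ∩ d ⊆ {u, w} ∪ R := by
      intro x hx
      obtain ⟨hxg, hxd⟩ := Finset.mem_inter.1 hx
      simp only [Finset.mem_union, Finset.mem_insert, Finset.mem_singleton]
      by_cases hxUW : x ∈ U ∪ W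
      · rcases Finset.mem_union.1 hxUW with h | h
        · have := eb ▸ Finset.mem_inter.2 ⟨hUb h, hxg⟩
          rcases Finset.mem_insert.1 this with rfl | h'
          · simp
          · exact absurd (hT3 h') fun h'' => hdT x h'' hxd
        · have := ec ▸ Finset.mem_inter.2 ⟨hWc h, hxg⟩
          rcases Finset.mem_insert.1 this with rfl | h'
          · simp
          · exact absurd (hT3 h') fun h'' => hdT x h'' hxd
      · exact Or.inr (Finset.mem_sdiff.2 ⟨hxd, hxUW⟩)
    have hRf : R ∩ g ⊆ {q} := by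
      intro x hx
      obtain ⟨hxR, hxg⟩ := Finset.mem_inter.1 hx
      rw [Finset.mem_singleton]
      by_contra hxq
      have hxT : x ∉ T := fun h => hdT x h (Finset.mem_sdiff.1 hxR).1
      have : insert x (insert q T3) ⊆ g ∩ f := by
        intro y hy
        simp only [Finset.mem_insert] at hy
        rcases hy with rfl | rfl | hy
        exacts [Finset.mem_inter.2 ⟨hxg, hfd hxR⟩, hq, h3 hy]
      have := Finset.card_le_card this
      rw [Finset.card_insert_of_notMem (by simp [hxq]; exact fun h => hxT (hT3 h)),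
        Finset.card_insert_of_notMem hq3, cT3] at this
      omega
    have hsup' : g ∩ d ⊆ {u, w, q} := by
      intro x hx
      rcases Finset.mem_union.1 (hsup hx) with h | h
      · simp only [Finset.mem_insert, Finset.mem_singleton] at h ⊢
        tauto
      · have := hRf (Finset.mem_inter.2 ⟨h, (Finset.mem_inter.1 hx).1⟩)
        simp only [Finset.mem_insert, Finset.mem_singleton] at this ⊢
        tauto
    have hqu : q ≠ u := fun h => hqUW (Finset.mem_union_left _ (h ▸ hu))
    have hqw : q ≠ w := fun h => hqUW (Finset.mem_union_right _ (h ▸ hw))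
    have c3 : ({u, w, q} : Finset α).card = 3 := by
      rw [Finset.card_insert_of_notMem (by simp [huw, hqu.symm]),
        Finset.card_insert_of_notMem (by simpa using hqw.symm), Finset.card_singleton]
    have := Finset.card_le_card hsub2
    have := Finset.card_le_card hsup'
    rcases inter_cases_24 hB hα hg hd hgd with e | e | e <;> omega
  choose! E hE hsE hbE hcE q hqE hqf hqT hqR using five
  have hinj : Set.InjOn q (U : Set α) := by
    intro u hu u' hu' e'
    by_contra hne
    have hu3 : ∀ v ∈ U, v ∉ T3 := fun v hv h => (Finset.mem_sdiff.1 hv).2 (hTc (hT3 h))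
    have hq3 : q u ∉ insert w T3 := by
      intro h
      rcases Finset.mem_insert.1 h with h | h
      · have hwT : q u ∈ T := hfc ▸ Finset.mem_inter.2 ⟨h ▸ hWc hw, hqf u hu⟩
        exact hqT u hu hwT
      · exact hqT u hu (hT3 h)
    have h5 : insert (q u) (insert w T3) ⊆ E u ∩ E u' := by
      refine Finset.subset_inter (Finset.insert_subset (hqE u hu) ?_)
        (Finset.insert_subset (e' ▸ hqE u' hu') ?_)
      · exact (Finset.subset_insert _ _).trans (hsE u hu)
      · exact (Finset.subset_insert _ _).trans (hsE u' hu')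
    have hEE := unique_block hB (hE u hu) (hE u' hu') (by
      have := Finset.card_le_card h5
      rw [Finset.card_insert_of_notMem hq3, Finset.card_insert_of_notMem hT3w, cT3] at this
      exact this)
    have hu'E : u' ∈ b ∩ E u := Finset.mem_inter.2 ⟨hUb hu', hEE ▸ hsE u' hu' (Finset.mem_insert_self _ _)⟩
    rw [hbE u hu] at hu'E
    rcases Finset.mem_insert.1 hu'E with h | h
    · exact hne h.symm
    · exact hu3 u' hu' h
  have hmap : ∀ u ∈ U, q u ∈ (f \ T) \ R := fun u hu =>
    Finset.mem_sdiff.2 ⟨Finset.mem_sdiff.2 ⟨hqf u hu, hqT u hu⟩, hqR u hu⟩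
  have := Finset.card_le_card_of_injOn q hmap hinj
  rw [cU, Finset.card_sdiff_of_subset, Finset.card_sdiff_of_subset hTf, hB.1 f hf, h4, cR] at this
  · omega
  · intro x hx
    exact Finset.mem_sdiff.2 ⟨hfd hx, fun h => hdT x h (Finset.mem_sdiff.1 hx).1⟩

omit [Fintype α] in
theorem exists_superset_card [Fintype α] {Y : Finset α} {n : ℕ} (h1 : Y.card ≤ n) (h2 : n ≤ Fintype.card α) :
    ∃ s : Finset α, Y ⊆ s ∧ s.card = n :=
  Finset.exists_superset_card_eq h1 h2

/-- A small set meets some block oddly. -/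
theorem exists_odd_24 (hB : IsSteinerSystem 5 8 B) (hα : Fintype.card α = 24) :
    ∀ n, 1 ≤ n → n ≤ 6 → ∀ Y : Finset α, Y.card = n → ∃ b ∈ B, ¬ Even (b ∩ Y).card := by
  have two : ∀ Y : Finset α, Y.card = 2 ∨ Y.card = 4 → ∃ b ∈ B, ¬ Even (b ∩ Y).card := by
    intro Y hY
    obtain ⟨y, hy⟩ := Finset.card_pos.1 (by omega : 0 < Y.card)
    obtain ⟨X, hYX, hX⟩ := exists_superset_card (Y := Y) (n := 5) (by omega) (by omega)
    obtain ⟨f, ⟨hf, hXf⟩, -⟩ := hB.2 X hX
    obtain ⟨u, hu⟩ : ∃ u, u ∉ f := by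
      by_contra h
      push Not at h
      have := Finset.card_le_card (fun x _ => h x : Finset.univ ⊆ f)
      rw [Finset.card_univ, hα, hB.1 f hf] at this
      omega
    have huX : u ∉ X := fun h => hu (hXf h)
    obtain ⟨g, ⟨hg, hXg⟩, -⟩ := hB.2 (insert u (X.erase y)) (by
      rw [Finset.card_insert_of_notMem (fun h => huX (Finset.mem_of_mem_erase h)),
        Finset.card_erase_of_mem (hYX hy), hX])
    obtain ⟨hug, hXg⟩ := Finset.insert_subset_iff.1 hXg
    refine ⟨g, hg, ?_⟩
    have hyg : y ∉ g := by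
      intro h
      have hsub : X ⊆ g := fun x hx => by
        rcases eq_or_ne x y with rfl | hxy
        · exact h
        · exact hXg (Finset.mem_erase.2 ⟨hxy, hx⟩)
      exact hu ((hB.2 X hX).unique ⟨hf, hXf⟩ ⟨hg, hsub⟩ ▸ hug)
    have e : g ∩ Y = Y.erase y := by
      ext x
      rw [Finset.mem_inter, Finset.mem_erase]
      exact ⟨fun ⟨h1, h2⟩ => ⟨fun h => hyg (h ▸ h1), h2⟩,
        fun ⟨h1, h2⟩ => ⟨hXg (Finset.mem_erase.2 ⟨h1, hYX h2⟩), h2⟩⟩
    rw [e, Finset.card_erase_of_mem hy, Nat.not_even_iff]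
    omega
  intro n hn1 hn6 Y hY
  by_cases h24 : n = 2 ∨ n = 4
  · exact two Y (hY ▸ h24)
  by_cases h6 : n = 6
  · obtain ⟨s, hs, hsc⟩ := Finset.exists_subset_card_eq (s := Y) (n := 5) (by omega)
    obtain ⟨b, ⟨hb, hsb⟩, -⟩ := hB.2 s hsc
    by_cases hYb : Y ⊆ b
    · obtain ⟨g, hg, hodd⟩ := two (b \ Y) (Or.inl (by
        rw [Finset.card_sdiff_of_subset hYb, hB.1 b hb]; omega))
      refine ⟨g, hg, fun hev => hodd ?_⟩
      have e : (g ∩ b).card = (g ∩ Y).card + (g ∩ (b \ Y)).card := by
        rw [← Finset.card_union_of_disjoint (Finset.disjoint_of_subset_left Finset.inter_subset_right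
          (Finset.disjoint_of_subset_right Finset.inter_subset_right Finset.disjoint_sdiff)),
          ← Finset.inter_union_distrib_left, Finset.union_sdiff_of_subset hYb]
      by_cases hgb : g = b
      · subst hgb
        rw [Finset.inter_eq_right.2 Finset.sdiff_subset, Finset.card_sdiff_of_subset hYb, hB.1 g hg, hY, h6]
        decide
      · rw [Nat.even_iff] at hev ⊢
        rcases inter_cases_24 hB hα hg hb hgb with h | h | h <;> omega
    · refine ⟨b, hb, ?_⟩
      have h5 := Finset.card_le_card (Finset.subset_inter hsb hs)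
      have h6' : (b ∩ Y).card < Y.card := by
        refine Finset.card_lt_card ⟨Finset.inter_subset_right, fun h => hYb ?_⟩
        exact fun x hx => (Finset.mem_inter.1 (h hx)).1
      rw [Nat.not_even_iff]
      omega
  obtain ⟨X, hYX, hX⟩ := exists_superset_card (Y := Y) (n := 5) (by omega) (by omega)
  obtain ⟨b, ⟨hb, hXb⟩, -⟩ := hB.2 X hX
  refine ⟨b, hb, ?_⟩
  rw [Finset.inter_eq_right.2 (hYX.trans hXb), Nat.not_even_iff]
  omega

/-! ### The code of an S(5,8,24) on twenty-four labelled points -/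

/-- The span of the block words. -/
def codeOf (B : Set (Finset (Fin 24))) : Submodule (ZMod 2) V := Submodule.span (ZMod 2) (wordS '' B)

variable {B' : Set (Finset (Fin 24))}

theorem dot_wordS (s t : Finset (Fin 24)) :
    ∑ i, wordS s i * wordS t i = ((s ∩ t).card : ZMod 2) := by
  have e2 : ∀ i, wordS s i * wordS t i = if i ∈ s ∩ t then (1 : ZMod 2) else 0 := by
    intro i
    by_cases h1 : i ∈ s <;> by_cases h2 : i ∈ t <;> simp [wordS, h1, h2]
  simp only [e2, Finset.sum_ite_mem, Finset.univ_inter, Finset.sum_const, nsmul_eq_mul, mul_one]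

/-- Eight-sets meeting pairwise evenly. -/
structure Even8 (F : Set (Finset (Fin 24))) : Prop where
  card8 : ∀ b ∈ F, b.card = 8
  even : ∀ b ∈ F, ∀ c ∈ F, b ≠ c → Even (b ∩ c).card

/-- Eight-sets meeting pairwise evenly, and meeting each small set somewhere oddly. -/
structure EvenFamily (F : Set (Finset (Fin 24))) : Prop where
  card8 : ∀ b ∈ F, b.card = 8
  even : ∀ b ∈ F, ∀ c ∈ F, b ≠ c → Even (b ∩ c).card
  odd : ∀ Y : Finset (Fin 24), 1 ≤ Y.card → Y.card ≤ 6 → ∃ b ∈ F, ¬ Even (b ∩ Y).card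

theorem dot_blocks (hB : Even8 B') {b c : Finset (Fin 24)} (hb : b ∈ B') (hc : c ∈ B') :
    ∑ i, wordS b i * wordS c i = 0 := by
  rw [dot_wordS, ZMod.natCast_eq_zero_iff_even, Nat.even_iff]
  rcases eq_or_ne b c with rfl | h
  · rw [Finset.inter_self, hB.card8 b hb]
  · exact Nat.even_iff.1 (hB.even b hb c hc h)

theorem codeOf_orth (hB : Even8 B') :
    ∀ v ∈ codeOf B', ∀ w ∈ codeOf B', ∑ i, v i * w i = 0 := by
  intro v hv w hw
  induction hv using Submodule.span_induction with
  | zero => simp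
  | add x y _ _ hx hy => simp [add_mul, Finset.sum_add_distrib, hx, hy]
  | smul a x _ hx => simp [mul_assoc, ← Finset.mul_sum, hx]
  | mem x hx =>
    obtain ⟨b, hb, rfl⟩ := hx
    induction hw using Submodule.span_induction with
    | zero => simp
    | add p q _ _ hp hq => simp [mul_add, Finset.sum_add_distrib, hp, hq]
    | smul a p _ hp => simp [mul_left_comm _ a, ← Finset.mul_sum, hp]
    | mem p hp => obtain ⟨c, hc, rfl⟩ := hp; exact dot_blocks hB hb hc

theorem codeOf_dvd (hB : Even8 B') : ∀ s, wordS s ∈ codeOf B' → 4 ∣ s.card := by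
  suffices h : ∀ w ∈ codeOf B', 4 ∣ (support₂ w).card by
    intro s hs
    simpa [supp_wordS] using h _ hs
  intro w hw
  induction hw using Submodule.span_induction with
  | zero => simp [support₂]
  | mem x hx =>
    obtain ⟨b, hb, rfl⟩ := hx
    rw [supp_wordS, hB.card8 b hb]; omega
  | smul a x _ hx =>
    rcases (by decide : ∀ a : ZMod 2, a = 0 ∨ a = 1) a with rfl | rfl
    · simp [support₂]
    · simpa using hx
  | add x y hxm hym hx hy =>
    have hd := codeOf_orth hB x hxm y hym
    rw [← wordS_supp x, ← wordS_supp y, dot_wordS, ZMod.natCast_eq_zero_iff_even, Nat.even_iff] at hd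
    rw [← wordS_supp x, ← wordS_supp y, wordS_add, supp_wordS]
    have := AbsGolay.card_symmDiff (support₂ x) (support₂ y)
    omega

theorem EvenFamily.even8 (hB : EvenFamily B') : Even8 B' := ⟨hB.card8, hB.even⟩

theorem no_small (hB : EvenFamily B') {v : V}
    (hv : ∀ b ∈ B', ∑ i, wordS b i * v i = 0) (h6 : (support₂ v).card ≤ 6) : v = 0 := by
  by_contra hne
  have h1 : 1 ≤ (support₂ v).card := by
    rw [Nat.one_le_iff_ne_zero]
    intro h0
    apply hne
    rw [← wordS_supp v, Finset.card_eq_zero.1 h0]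
    funext i; simp [wordS]
  obtain ⟨b, hb, hodd⟩ := hB.odd (support₂ v) h1 h6
  have := hv b hb
  rw [← wordS_supp v, dot_wordS, ZMod.natCast_eq_zero_iff_even] at this
  exact hodd this

theorem isGolay_codeOf (hB : EvenFamily B') : IsGolay (codeOf B') := by
  classical
  have horth := codeOf_orth hB.even8
  let e : V ≃ₗ[ZMod 2] Module.Dual (ZMod 2) V := dotProductEquiv (ZMod 2) (Fin 24)
  let D : Submodule (ZMod 2) V := (codeOf B').dualAnnihilator.comap e.toLinearMap
  have hD : ∀ v ∈ D, ∀ w ∈ codeOf B', ∑ i, v i * w i = 0 := fun v hv w hw =>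
    (Submodule.mem_dualAnnihilator _).1 hv w hw
  have hle : codeOf B' ≤ D := fun v hv => (Submodule.mem_dualAnnihilator _).2 fun w hw => horth v hv w hw
  have hsmall : ∀ v ∈ D, (support₂ v).card ≤ 6 → v = 0 := fun v hv h6 => no_small hB (fun b hb => by
    rw [Finset.sum_congr rfl fun i _ => mul_comm (wordS b i) (v i)]
    exact hD v hv _ (Submodule.subset_span ⟨b, hb, rfl⟩)) h6
  have hsum : Module.finrank (ZMod 2) (codeOf B') + Module.finrank (ZMod 2) D = 24 := by
    have h := Subspace.finrank_add_finrank_dualAnnihilator_eq (codeOf B')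
    rw [Module.finrank_fin_fun] at h
    rwa [show D = (codeOf B').dualAnnihilator.map e.symm.toLinearMap from
      Submodule.comap_equiv_eq_map_symm e _, LinearEquiv.finrank_map_eq]
  have hDb : Module.finrank (ZMod 2) D ≤ 12 := by
    let low := (Finset.range 4).biUnion fun k => (Finset.univ : Finset (Fin 24)).powersetCard k
    have hlow : ∀ u ∈ low, u.card ≤ 3 := fun u hu => by
      simp only [low, Finset.mem_biUnion, Finset.mem_range, Finset.mem_powersetCard] at hu
      obtain ⟨k, hk, -, rfl⟩ := hu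
      omega
    have hinj : Set.InjOn (fun u => (Submodule.Quotient.mk (wordS u) : V ⧸ D))
        (low : Set (Finset (Fin 24))) := fun u hu v hv e => by
      simp only [Submodule.Quotient.eq, sub_eq_add, wordS_add] at e
      have h6 : (symmDiff u v).card ≤ 6 := by
        have := AbsGolay.card_symmDiff u v
        have := hlow u hu
        have := hlow v hv
        omega
      have h0 := congrArg support₂ (hsmall _ e (by rwa [supp_wordS]))
      rw [supp_wordS] at h0
      refine symmDiff_eq_bot.1 (h0.trans ?_)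
      ext i; simp [support₂]
    have clow : low.card = 2325 := by
      rw [Finset.card_biUnion]
      · simp only [Finset.card_powersetCard, Finset.card_univ, Fintype.card_fin]
        decide +kernel
      · intro a _ b _ hab
        exact Finset.disjoint_left.2 fun u hu hu' =>
          hab ((Finset.mem_powersetCard.1 hu).2.symm.trans (Finset.mem_powersetCard.1 hu').2)
    let : Fintype (V ⧸ D) := Fintype.ofFinite _
    have hc := Finset.card_le_univ (low.image fun u => (Submodule.Quotient.mk (wordS u) : V ⧸ D))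
    rw [Finset.card_image_of_injOn hinj, clow, ← Nat.card_eq_fintype_card] at hc
    have hq := Submodule.card_eq_card_quotient_mul_card D
    rw [Module.natCard_eq_pow_finrank (K := ZMod 2) (V := D), Nat.card_zmod,
      show Nat.card V = 2 ^ 24 by simp [Nat.card_eq_fintype_card]] at hq
    by_contra h13
    have : (2 : ℕ) ^ 13 ≤ 2 ^ Module.finrank (ZMod 2) D := Nat.pow_le_pow_right (by omega) (by omega)
    have := Nat.mul_le_mul hc this
    rw [mul_comm] at hq
    omega
  have hmono := Submodule.finrank_mono hle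
  refine ⟨by omega, horth, fun w hw hne => ?_⟩
  have h4 : 4 ∣ (support₂ w).card := codeOf_dvd hB.even8 _ (by rwa [wordS_supp])
  rw [weight_eq]
  by_contra h8
  exact hne (hsmall w (hle hw) (by omega))

theorem evenFamily_of_steiner (hB : IsSteinerSystem 5 8 B') : EvenFamily B' where
  card8 := hB.1
  even b hb c hc h := by
    rcases inter_cases_24 hB (Fintype.card_fin 24) hb hc h with e | e | e <;> rw [e] <;> decide
  odd Y h1 h6 := exists_odd_24 hB (Fintype.card_fin 24) _ h1 h6 Y rfl

theorem mem_iff_codeOf (hB : IsSteinerSystem 5 8 B') {o : Finset (Fin 24)} :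
    o ∈ B' ↔ wordS o ∈ codeOf B' ∧ o.card = 8 := by
  refine ⟨fun h => ⟨Submodule.subset_span ⟨o, h, rfl⟩, hB.1 o h⟩, fun ⟨hC, h8⟩ => ?_⟩
  obtain ⟨s, hs, hsc⟩ := Finset.exists_subset_card_eq (s := o) (n := 5) (by omega)
  obtain ⟨b, ⟨hb, hsb⟩, -⟩ := hB.2 s hsc
  rwa [(isGolay_codeOf (evenFamily_of_steiner hB)).eight_unique h8 hC (hB.1 b hb) (Submodule.subset_span ⟨b, hb, rfl⟩)
    hsc.ge hs hsb]

end CfsgLib.Steiner
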