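/-
Every S(5,8,24) is the system of octads, up to relabelling.
-/
import Cfsg.Agent.Steiner.Code24
import Cfsg.Agent.Golay.Unique

set_option autoImplicit false

namespace CfsgLib.Steiner

open Cfsg CfsgLib.AbsGolay CfsgLib.Golay
open scoped Pointwise

variable {α β : Type*} [DecidableEq α] [DecidableEq β] {t k : ℕ} {B : Set (Finset α)}

omit [DecidableEq α] in
theorem image_symm (e : α ≃ β) [DecidableEq α] (s : Finset β) : (s.image e.symm).image e = s := by
  ext; simp

/-- Relabelling a Steiner system. -/
theorem steiner_image (e : α ≃ β) (hB : IsSteinerSystem t k B) :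
    IsSteinerSystem t k ((fun b => b.image e) '' B) := by
  refine ⟨?_, fun s hs => ?_⟩
  · rintro _ ⟨b, hb, rfl⟩
    rw [Finset.card_image_of_injective _ e.injective, hB.1 b hb]
  · obtain ⟨b, ⟨hb, hsb⟩, hu⟩ := hB.2 (s.image e.symm)
      (by rw [Finset.card_image_of_injective _ e.symm.injective, hs])
    refine ⟨b.image e, ⟨⟨b, hb, rfl⟩, ?_⟩, ?_⟩
    · rw [← image_symm e s]; exact Finset.image_subset_image hsb
    · rintro _ ⟨⟨c, hc, rfl⟩, hsc⟩
      refine congrArg (Finset.image e) (hu c ⟨hc, fun x hx => ?_⟩)
      obtain ⟨y, hy, rfl⟩ := Finset.mem_image.1 hx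
      obtain ⟨z, hz, rfl⟩ := Finset.mem_image.1 (hsc hy)
      simpa using hz

variable [Fintype α]

/-- An S(5,8,24) is the system of octads, relabelled. -/
theorem iso_octads (hB : IsSteinerSystem 5 8 B) (hα : Fintype.card α = 24) :
    ∃ e : α ≃ GolayPt, (fun b => b.image e) '' B = octads := by
  let g : α ≃ Fin 24 := Fintype.equivFinOfCardEq hα
  have hB' := steiner_image g hB
  set B' := (fun b => b.image g) '' B with hB'def
  obtain ⟨f, hf⟩ := Unique.exists_equiv_code (isGolay_codeOf (evenFamily_of_steiner hB'))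
  have key : ∀ o : Finset (Fin 24), o ∈ B' ↔ o.image f ∈ octads := by
    intro o
    rw [mem_iff_codeOf hB']
    show _ ↔ o.image f ∈ supports (golayCode : Set (GolayPt → ZMod 2)) ∧ (o.image f).card = 8
    rw [Finset.card_image_of_injective _ f.injective]
    refine and_congr_left fun _ => ?_
    have e1 : (fun i => wordOf (o.image f) (f i)) = wordS o := funext fun i => by
      simp [wordOf, wordS, f.injective.eq_iff]
    rw [← e1, ← hf]
    refine ⟨fun h => ⟨_, h, support_wordOf _⟩, fun ⟨w, hw, he⟩ => ?_⟩
    rwa [← he, wordOf_support]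
  refine ⟨g.trans f, Set.ext fun o => ⟨?_, fun ho => ?_⟩⟩
  · rintro ⟨b, hb, rfl⟩
    have := (key (b.image g)).1 ⟨b, hb, rfl⟩
    rwa [Finset.image_image] at this
  · have := (key (o.image f.symm)).2 (by rwa [image_symm])
    obtain ⟨b, hb, e⟩ := this
    refine ⟨b, hb, ?_⟩
    simp only at e ⊢
    rw [← image_symm f o, ← e, Finset.image_image]
    rfl

omit [Fintype α] in
theorem mem_setSystemAut {σ : Equiv.Perm α} {B : Set (Finset α)} :
    σ ∈ setSystemAut B ↔ σ • B = B := MulAction.mem_stabilizer_iff

omit [Fintype α] in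
theorem smul_image (e : α ≃ β) (σ : Equiv.Perm α) (b : Finset α) :
    e.permCongr σ • b.image e = (σ • b).image e := by
  ext y
  simp [Finset.mem_smul_finset, Equiv.Perm.smul_def, Equiv.permCongr_apply]

omit [Fintype α] in
/-- Relabelling the automorphism group. -/
theorem permCongr_mem (e : α ≃ β) {B : Set (Finset α)} {σ : Equiv.Perm α} :
    e.permCongr σ ∈ setSystemAut ((fun b => b.image e) '' B) ↔ σ ∈ setSystemAut B := by
  rw [mem_setSystemAut, mem_setSystemAut, ← (Set.image_injective.2
    (Finset.image_injective e.injective)).eq_iff (a := σ • B)]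
  rw [show e.permCongr σ • ((fun b => b.image e) '' B) = (fun b => b.image e) '' (σ • B) by
    rw [← Set.image_smul, ← Set.image_smul, Set.image_image, Set.image_image]
    simp only [smul_image]]

omit [Fintype α] in
/-- The isomorphism of automorphism groups induced by a relabelling. -/
def autEquiv (e : α ≃ β) {B : Set (Finset α)} {B' : Set (Finset β)}
    (h : (fun b => b.image e) '' B = B') : setSystemAut B ≃* setSystemAut B' where
  toFun σ := ⟨e.permCongr σ.1, h ▸ (permCongr_mem e).2 σ.2⟩
  invFun σ := ⟨e.symm.permCongr σ.1, (permCongr_mem e).1 (by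
    rw [h, show e.permCongr (e.symm.permCongr σ.1) = σ.1 from Equiv.ext fun x => by simp]
    exact σ.2)⟩
  left_inv σ := Subtype.ext (Equiv.ext fun x => by simp)
  right_inv σ := Subtype.ext (Equiv.ext fun x => by simp)
  map_mul' σ τ := Subtype.ext (Equiv.ext fun x => by simp)

omit [Fintype α] in
/-- Multiple transitivity carried along a relabelling. -/
theorem pretransitive_of_equiv (e : α ≃ β) {B : Set (Finset α)} {B' : Set (Finset β)}
    (h : (fun b => b.image e) '' B = B') {n : ℕ}
    (h2 : ∀ x y : Fin n → β, Function.Injective x → Function.Injective y →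
      ∃ g ∈ setSystemAut B', ∀ i, g (x i) = y i) :
    MulAction.IsMultiplyPretransitive (setSystemAut B) α n := by
  refine ⟨fun x y => ?_⟩
  obtain ⟨g, hg, hgi⟩ := h2 (e ∘ x) (e ∘ y) (e.injective.comp x.injective) (e.injective.comp y.injective)
  refine ⟨(autEquiv e h).symm ⟨g, hg⟩, Function.Embedding.ext fun i => ?_⟩
  show e.symm.permCongr g (x i) = y i
  simp [Equiv.permCongr_apply, show g (e (x i)) = e (y i) from hgi i]

end CfsgLib.Steiner
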