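/-
An S(4,7,23) extends to the system of octads: uniqueness and automorphism group.
-/
import Cfsg.Agent.Steiner.Iso24

set_option autoImplicit false

namespace CfsgLib.Steiner

open Cfsg CfsgLib.AbsGolay CfsgLib.Golay
open scoped Pointwise

variable {α β : Type*} [DecidableEq α] [DecidableEq β] {B : Set (Finset α)}

section

variable [Fintype α]

/-- Both parities of intersection occur for small sets in an S(4,7,23). -/
theorem both_parities_23 (hB : IsSteinerSystem 4 7 B) (hα : Fintype.card α = 23) (Y : Finset α) :
    (1 ≤ Y.card → Y.card ≤ 6 → ∃ b ∈ B, ¬ Even (b ∩ Y).card) ∧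
      (Y.card ≤ 5 → ∃ b ∈ B, Even (b ∩ Y).card) := by
  have small : ∀ Y : Finset α, Y.card ≤ 4 →
      (1 ≤ Y.card → ∃ b ∈ B, ¬ Even (b ∩ Y).card) ∧ ∃ b ∈ B, Even (b ∩ Y).card := by
    intro Y hY
    have pick : ∀ j, 0 < meet B Y j → ∃ b ∈ B, (b ∩ Y).card = j := fun j h => by
      obtain ⟨b, hb⟩ := Finset.card_pos.1 h
      exact ⟨b, mem_blocks.1 (Finset.mem_filter.1 hb).1, (Finset.mem_filter.1 hb).2⟩
    have m0 := moments hB Y (i := 0) (by omega)
    have m1 := moments hB Y (i := 1) (by omega)
    have m2 := moments hB Y (i := 2) (by omega)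
    have m3 := moments hB Y (i := 3) (by omega)
    have m4 := moments hB Y (i := 4) (by omega)
    have key : (1 ≤ Y.card → 0 < meet B Y 1) ∧ 0 < meet B Y 0 := by
      interval_cases e : Y.card <;>
      · simp [hα, Finset.sum_range_succ, Nat.choose_eq_descFactorial_div_factorial,
          Nat.descFactorial_succ, Nat.factorial] at m0 m1 m2 m3 m4
        omega
    refine ⟨fun h => ?_, ?_⟩
    · obtain ⟨b, hb, e⟩ := pick 1 (key.1 h)
      exact ⟨b, hb, by rw [e]; decide⟩
    · obtain ⟨b, hb, e⟩ := pick 0 key.2
      exact ⟨b, hb, by rw [e]; decide⟩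
  -- exchanging a set for its symmetric difference with a block reverses the parity
  have flip : ∀ Y : Finset α, ∀ b ∈ B, ∀ g ∈ B,
      (g ∩ symmDiff Y b).card % 2 = ((g ∩ Y).card + 1) % 2 := by
    intro Y b hb g hg
    have hd : (g ∩ b).card % 2 = 1 := by
      rcases eq_or_ne g b with rfl | h
      · rw [Finset.inter_self, hB.1 g hg]
      · have hp := meet_pos (Y := b) hg
        obtain ⟨h0, -, h2, -, h4, h5, h6, -⟩ := meet_23 hB hα hb
        have : (g ∩ b).card < 4 := by
          by_contra h'
          exact h (unique_block hB hg hb (by omega))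
        interval_cases e : (g ∩ b).card <;> simp_all
    rw [show g ∩ symmDiff Y b = symmDiff (g ∩ Y) (g ∩ b) by
      ext x; simp [Finset.mem_symmDiff]; tauto,
      symmDiff_def, Finset.sup_eq_union, Finset.card_union_of_disjoint disjoint_sdiff_sdiff]
    have h1 := Finset.card_sdiff_add_card_inter (g ∩ Y) (g ∩ b)
    have h2 := Finset.card_sdiff_add_card_inter (g ∩ b) (g ∩ Y)
    rw [Finset.inter_comm (g ∩ b) (g ∩ Y)] at h2
    omega
  have step : ∀ Y : Finset α, 5 ≤ Y.card → Y.card ≤ 6 → ∃ b ∈ B, (symmDiff Y b).card = 7 + Y.card -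
      2 * (b ∩ Y).card ∧ 4 ≤ (b ∩ Y).card ∧ (b ∩ Y).card ≤ Y.card := by
    intro Y h5 h6
    obtain ⟨s, hs, hsc⟩ := Finset.exists_subset_card_eq (s := Y) (n := 4) (by omega)
    obtain ⟨b, ⟨hb, hsb⟩, -⟩ := hB.2 s hsc
    refine ⟨b, hb, ?_, hsc ▸ Finset.card_le_card (Finset.subset_inter hsb hs),
      Finset.card_le_card Finset.inter_subset_right⟩
    rw [symmDiff_def, Finset.sup_eq_union, Finset.card_union_of_disjoint disjoint_sdiff_sdiff]
    have h1 := Finset.card_sdiff_add_card_inter Y b
    have h2 := Finset.card_sdiff_add_card_inter b Y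
    rw [Finset.inter_comm Y b] at h1
    have := hB.1 b hb
    omega
  have five : ∀ Y : Finset α, Y.card = 5 →
      (∃ b ∈ B, ¬ Even (b ∩ Y).card) ∧ ∃ b ∈ B, Even (b ∩ Y).card := by
    intro Y h5
    obtain ⟨b, hb, hc, h1, h2⟩ := step Y (by omega) (by omega)
    obtain ⟨o, e⟩ := small (symmDiff Y b) (by omega)
    obtain ⟨g, hg, hg'⟩ := e
    obtain ⟨g2, hg2, hg2'⟩ := o (by omega)
    have f1 := flip Y b hb g hg
    have f2 := flip Y b hb g2 hg2
    rw [Nat.even_iff] at hg' hg2'
    exact ⟨⟨g, hg, by rw [Nat.even_iff]; omega⟩, ⟨g2, hg2, by rw [Nat.even_iff]; omega⟩⟩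
  refine ⟨fun h1 h6 => ?_, fun h5 => ?_⟩
  · rcases lt_or_ge Y.card 5 with h | h
    · exact (small Y (by omega)).1 h1
    obtain ⟨b, hb, hc, hl, hu⟩ := step Y h h6
    rcases lt_or_ge (symmDiff Y b).card 5 with h' | h'
    · obtain ⟨g, hg, hg'⟩ := (small (symmDiff Y b) (by omega)).2
      have f1 := flip Y b hb g hg
      rw [Nat.even_iff] at hg'
      exact ⟨g, hg, by rw [Nat.even_iff]; omega⟩
    · obtain ⟨g, hg, hg'⟩ := (five (symmDiff Y b) (by omega)).2
      have f1 := flip Y b hb g hg
      rw [Nat.even_iff] at hg'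
      exact ⟨g, hg, by rw [Nat.even_iff]; omega⟩
  · rcases lt_or_ge Y.card 5 with h | h
    · exact (small Y (by omega)).2
    · exact (five Y (by omega)).2

/-- A block with the extra point. -/
def up (b : Finset α) : Finset (Option α) := insert none (b.map Function.Embedding.some)

omit [Fintype α] in
theorem none_mem_up (b : Finset α) : none ∈ up b := Finset.mem_insert_self _ _

omit [Fintype α] in
theorem some_mem_up {b : Finset α} {x : α} : some x ∈ up b ↔ x ∈ b := by simp [up]

omit [Fintype α] in
theorem card_up (b : Finset α) : (up b).card = b.card + 1 := by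
  rw [up, Finset.card_insert_of_notMem (by simp), Finset.card_map]

omit [Fintype α] in
theorem up_inter (b : Finset α) (Y : Finset (Option α)) :
    (up b ∩ Y).card = (b ∩ Y.eraseNone).card + (if none ∈ Y then 1 else 0) := by
  have e : up b ∩ Y = (if none ∈ Y then {none} else ∅) ∪ (b ∩ Y.eraseNone).map Function.Embedding.some := by
    ext x
    cases x <;> split_ifs <;> simp_all [up]
  rw [e, Finset.card_union_of_disjoint (by split_ifs <;> simp [Finset.disjoint_left]), Finset.card_map]
  split_ifs <;> simp [Nat.add_comm]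

theorem evenFamily_23 (hB : IsSteinerSystem 4 7 B) (hα : Fintype.card α = 23) (g : Option α ≃ Fin 24) :
    EvenFamily ((fun b => (up b).image g) '' B) where
  card8 := by
    rintro _ ⟨b, hb, rfl⟩
    rw [Finset.card_image_of_injective _ g.injective, card_up, hB.1 b hb]
  even := by
    rintro _ ⟨b, hb, rfl⟩ _ ⟨c, hc, rfl⟩ hne
    rw [← Finset.image_inter _ _ g.injective, Finset.card_image_of_injective _ g.injective, up_inter,
      if_pos (none_mem_up c), show (up c).eraseNone = c by ext x; simp [some_mem_up]]
    have hbc : b ≠ c := fun e => hne (by rw [e])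
    have hp := meet_pos (Y := c) hb
    obtain ⟨h0, -, h2, -, h4, h5, h6, -⟩ := meet_23 hB hα hc
    have : (b ∩ c).card < 4 := by
      by_contra h
      exact hbc (unique_block hB hb hc (by omega))
    interval_cases e : (b ∩ c).card <;> simp_all <;> decide
  odd := by
    intro Z h1 h6
    set Y := Z.image g.symm with hY
    have hZ : Z = Y.image g := by rw [hY, image_symm]
    have hYc : Y.card = Z.card := Finset.card_image_of_injective _ g.symm.injective
    have hm : ∀ b : Finset α, ((up b).image g ∩ Z).card = (up b ∩ Y).card := fun b => by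
      rw [hZ, ← Finset.image_inter _ _ g.injective, Finset.card_image_of_injective _ g.injective]
    have hp := both_parities_23 hB hα Y.eraseNone
    have he : Y.eraseNone.card + (if none ∈ Y then 1 else 0) = Y.card := by
      split_ifs with h
      · rw [Finset.card_eraseNone_of_mem h]
        have := Finset.card_pos.2 ⟨_, h⟩
        omega
      · rw [Finset.card_eraseNone_of_not_mem h]; omega
    by_cases hn : none ∈ Y
    · rw [if_pos hn] at he
      obtain ⟨b, hb, h⟩ := hp.2 (by omega)
      refine ⟨_, ⟨b, hb, rfl⟩, ?_⟩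
      rw [hm, up_inter, if_pos hn, Nat.even_add_one]
      exact not_not.2 h
    · rw [if_neg hn] at he
      obtain ⟨b, hb, h⟩ := hp.1 (by omega) (by omega)
      refine ⟨_, ⟨b, hb, rfl⟩, ?_⟩
      rwa [hm, up_inter, if_neg hn, add_zero]

end

/-- The octads through the point at infinity, punctured. -/
def octads23 : Set (Finset (ZMod 23)) := {b | up b ∈ octads}

/-- An S(4,7,23) is the punctured system of octads, relabelled. -/
theorem iso_octads23 [Fintype α] (hB : IsSteinerSystem 4 7 B) (hα : Fintype.card α = 23) :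
    ∃ e : α ≃ ZMod 23, (fun b => b.image e) '' B = octads23 := by
  let g : Option α ≃ Fin 24 := Fintype.equivFinOfCardEq (by rw [Fintype.card_option, hα])
  have hF := evenFamily_23 hB hα g
  obtain ⟨f, hf⟩ := Unique.exists_equiv_code (isGolay_codeOf hF)
  obtain ⟨m, hm, hmn⟩ := exists_map_tuple (n := 1) (by omega) (fun _ => f (g none)) (fun _ => none)
    (fun _ _ _ => Subsingleton.elim _ _) (fun _ _ _ => Subsingleton.elim _ _)
  let E : Option α ≃ GolayPt := (g.trans f).trans m
  have hE0 : E none = none := hmn 0
  have hoct : ∀ b ∈ B, (up b).image E ∈ octads := by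
    intro b hb
    have h1 : (up b).image (g.trans f) ∈ octads := by
      refine ⟨⟨wordOf ((up b).image (g.trans f)), (hf _).2 ?_, support_wordOf _⟩, ?_⟩
      · refine Submodule.subset_span ⟨(up b).image g, ⟨b, hb, rfl⟩, funext fun i => ?_⟩
        obtain ⟨x, rfl⟩ := g.surjective i
        simp [wordS, wordOf, (f.injective.comp g.injective).eq_iff, g.injective.eq_iff]
      · rw [Finset.card_image_of_injective _ (g.trans f).injective, card_up, hB.1 b hb]
    have h2 := smul_mem_octads hm h1
    convert h2 using 1
    ext y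
    simp [Finset.mem_smul_finset, E]
  let e : α ≃ ZMod 23 := Equiv.removeNone E
  have heq : ∀ x, some (e x) = E (some x) := by
    intro x
    refine Equiv.removeNone_some E ?_
    cases h : E (some x) with
    | none => exact absurd (E.injective (h.trans hE0.symm)) (by simp)
    | some y => exact ⟨y, rfl⟩
  have hup : ∀ b : Finset α, up (b.image e) = (up b).image E := by
    intro b
    ext y
    simp only [up, Finset.mem_insert, Finset.mem_map, Finset.mem_image, Function.Embedding.some_apply]
    constructor
    · rintro (rfl | ⟨z, ⟨x, hx, rfl⟩, rfl⟩)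
      · exact ⟨none, Or.inl rfl, hE0⟩
      · exact ⟨some x, Or.inr ⟨x, hx, rfl⟩, (heq x).symm⟩
    · rintro ⟨a, rfl | ⟨x, hx, rfl⟩, rfl⟩
      · exact Or.inl hE0
      · exact Or.inr ⟨e x, ⟨x, hx, rfl⟩, heq x⟩
  refine ⟨e, Set.ext fun o => ⟨?_, fun ho => ?_⟩⟩
  · rintro ⟨b, hb, rfl⟩
    show up (b.image e) ∈ octads
    rw [hup]; exact hoct b hb
  · have ho8 := card_of_mem_octads (o := up o) ho
    rw [card_up] at ho8
    obtain ⟨s, hs, hsc⟩ := Finset.exists_subset_card_eq (s := o) (n := 4) (by omega)
    obtain ⟨b, ⟨hb, hsb⟩, -⟩ := hB.2 (s.image e.symm)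
      (by rw [Finset.card_image_of_injective _ e.symm.injective, hsc])
    have hsb' : s ⊆ b.image e := by
      rw [← image_symm e s]; exact Finset.image_subset_image hsb
    refine ⟨b, hb, ?_⟩
    have h5 : up (b.image e) = up o := octad_unique (hup b ▸ hoct b hb) ho (s := up s)
      (by rw [card_up, hsc]) (Finset.insert_subset_insert _ (Finset.map_subset_map.2 hsb'))
      (Finset.insert_subset_insert _ (Finset.map_subset_map.2 hs))
    ext x
    show x ∈ b.image e ↔ x ∈ o
    rw [← some_mem_up (b := b.image e), h5, some_mem_up]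

/-- A permutation keeping the octads through infinity keeps every octad. -/
theorem optionCongr_mem_M24 {σ : Equiv.Perm (ZMod 23)} (hσ : σ ∈ setSystemAut octads23) :
    (σ.optionCongr : Equiv.Perm GolayPt) ∈ M24 := by
  set τ : Equiv.Perm GolayPt := σ.optionCongr with hτ
  let g : GolayPt ≃ Fin 24 := ptEquiv
  have hS23 : IsSteinerSystem 4 7 octads23 := by
    refine ⟨fun b hb => ?_, fun s hs => ?_⟩
    · have := card_of_mem_octads (o := up b) hb
      rw [card_up] at this
      omega
    · obtain ⟨o, ⟨ho, hso⟩, hu⟩ := Golay.steiner.2 (up s) (by rw [card_up, hs])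
      have he : up o.eraseNone = o := by
        ext x; cases x <;> simp [some_mem_up, none_mem_up, hso (none_mem_up s)]
      refine ⟨o.eraseNone, ⟨show up o.eraseNone ∈ octads by rw [he]; exact ho, fun x hx => ?_⟩, ?_⟩
      · exact Finset.mem_eraseNone.2 (hso (some_mem_up.2 hx))
      · rintro c ⟨hc, hsc⟩
        have := hu (up c) ⟨hc, Finset.insert_subset_insert _ (Finset.map_subset_map.2 hsc)⟩
        ext x
        rw [Finset.mem_eraseNone, ← this, some_mem_up]
  have hF := evenFamily_23 hS23 (ZMod.card 23) g
  have hAll : IsSteinerSystem 5 8 ((fun o => o.image g) '' octads) := steiner_image g Golay.steiner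
  have hG := isGolay_codeOf (evenFamily_of_steiner hAll)
  have hle : codeOf ((fun b => (up b).image g) '' octads23) ≤ codeOf ((fun o => o.image g) '' octads) :=
    Submodule.span_mono (Set.image_mono (by rintro _ ⟨b, hb, rfl⟩; exact ⟨up b, hb, rfl⟩))
  have heq := Submodule.eq_of_le_of_finrank_eq hle ((isGolay_codeOf hF).dim.trans hG.dim.symm)
  rw [M24_eq_setSystemAut, mem_setSystemAut]
  refine Set.eq_of_subset_of_ncard_le ?_
    (le_of_eq (Set.ncard_image_of_injective _ (MulAction.injective τ)).symm) (Set.toFinite _)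
  rintro _ ⟨o, ho, rfl⟩
  show τ • o ∈ octads
  let L : V →ₗ[ZMod 2] V := LinearMap.funLeft (ZMod 2) (ZMod 2) fun i => g (τ.symm (g.symm i))
  have hL : ∀ s : Finset GolayPt, L (wordS (s.image g)) = wordS ((τ • s).image g) := by
    intro s
    funext i
    obtain ⟨p, rfl⟩ := g.surjective i
    simp only [L, LinearMap.funLeft_apply, Equiv.symm_apply_apply, wordS]
    simp [g.injective.eq_iff, Finset.mem_smul_finset, Equiv.eq_symm_apply]
  have hC : codeOf ((fun b => (up b).image g) '' octads23) ≤
      (codeOf ((fun b => (up b).image g) '' octads23)).comap L := by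
    refine Submodule.span_le.2 ?_
    rintro _ ⟨_, ⟨b, hb, rfl⟩, rfl⟩
    simp only [SetLike.mem_coe, Submodule.mem_comap]
    rw [hL]
    refine Submodule.subset_span ⟨_, ⟨σ • b, ?_, rfl⟩, ?_⟩
    · have := Set.smul_mem_smul_set (a := σ) hb
      rwa [mem_setSystemAut.1 hσ] at this
    · refine congrArg (fun s : Finset GolayPt => wordS (s.image g)) ?_
      ext x
      rw [Finset.mem_smul_finset]
      cases x with
      | none => exact ⟨fun _ => ⟨none, none_mem_up b, rfl⟩, fun _ => none_mem_up _⟩
      | some y =>
        rw [some_mem_up, Finset.mem_smul_finset]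
        constructor
        · rintro ⟨z, hz, rfl⟩
          exact ⟨some z, some_mem_up.2 hz, rfl⟩
        · rintro ⟨a, ha, e⟩
          cases a with
          | none =>
            have e' : (none : GolayPt) = some y := e
            simp at e'
          | some z => exact ⟨z, some_mem_up.1 ha, Option.some_injective _ e⟩
  have h1 : wordS (o.image g) ∈ codeOf ((fun b => (up b).image g) '' octads23) :=
    heq ▸ Submodule.subset_span ⟨_, ⟨o, ho, rfl⟩, rfl⟩
  have h2 : wordS ((τ • o).image g) ∈ codeOf ((fun b => (up b).image g) '' octads23) := by rw [← hL o]; exact hC h1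
  rw [heq] at h2
  obtain ⟨o', ho', e⟩ := (mem_iff_codeOf hAll).2 ⟨h2, by
    rw [Finset.card_image_of_injective _ g.injective, Finset.card_smul_finset, card_of_mem_octads ho]⟩
  rwa [← Finset.image_injective g.injective e]

theorem removeNone_mem {g : Equiv.Perm GolayPt} (hg : g ∈ M24) (h0 : g none = none) :
    Equiv.removeNone g ∈ setSystemAut octads23 := by
  refine MulAction.mem_stabilizer_iff.2 (Set.eq_of_subset_of_ncard_le ?_
    (le_of_eq (Set.ncard_image_of_injective _ (MulAction.injective _)).symm) (Set.toFinite _))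
  rintro _ ⟨b, hb, rfl⟩
  show up (Equiv.removeNone g • b) ∈ octads
  have hsome : ∀ x, some (Equiv.removeNone g x) = g (some x) := fun x => by
    refine Equiv.removeNone_some g ?_
    cases h : g (some x) with
    | none => exact absurd (g.injective (h.trans h0.symm)) (by simp)
    | some y => exact ⟨y, rfl⟩
  have e : up (Equiv.removeNone g • b) = g • up b := by
    ext x
    rw [Finset.mem_smul_finset]
    cases x with
    | none => exact ⟨fun _ => ⟨none, none_mem_up b, h0⟩, fun _ => none_mem_up _⟩
    | some y =>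
      rw [some_mem_up, Finset.mem_smul_finset]
      constructor
      · rintro ⟨z, hz, rfl⟩
        exact ⟨some z, some_mem_up.2 hz, (hsome z).symm⟩
      · rintro ⟨a, ha, e⟩
        cases a with
        | none =>
          have e' : g none = some y := e
          rw [h0] at e'
          simp at e'
        | some z => exact ⟨z, some_mem_up.1 ha, Option.some_injective _ ((hsome z).trans e)⟩
  rw [e]
  exact smul_mem_octads hg hb

/-- The automorphism group of the punctured octads is the stabiliser of infinity. -/
noncomputable def autEquiv23 : setSystemAut octads23 ≃* MulAction.stabilizer M24 (none : GolayPt) where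
  toFun σ := ⟨⟨σ.1.optionCongr, optionCongr_mem_M24 σ.2⟩, rfl⟩
  invFun g := ⟨Equiv.removeNone g.1.1, removeNone_mem g.1.2 g.2⟩
  left_inv σ := Subtype.ext (Equiv.removeNone_optionCongr σ.1)
  right_inv g := by
    refine Subtype.ext (Subtype.ext (Equiv.ext fun x => ?_))
    cases x with
    | none => exact g.2.symm
    | some y =>
      refine Equiv.removeNone_some g.1.1 ?_
      cases h : g.1.1 (some y) with
      | none => exact absurd (g.1.1.injective (h.trans g.2.symm)) (by simp)
      | some z => exact ⟨z, rfl⟩
  map_mul' σ τ := by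
    refine Subtype.ext (Subtype.ext (Equiv.ext fun x => ?_))
    cases x <;> rfl

theorem autEquiv23_symm_some (g : MulAction.stabilizer M24 (none : GolayPt)) (x : ZMod 23) :
    some ((autEquiv23.symm g).1 x) = g.1.1 (some x) :=
  Equiv.congr_fun (congrArg (fun h : MulAction.stabilizer M24 (none : GolayPt) => h.1.1)
    (autEquiv23.apply_symm_apply g)) (some x)

end CfsgLib.Steiner
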