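/-
An S(3,6,22) extends by two points and one further word to a code of length 24.
-/
import Cfsg.Agent.Steiner.Iso23

set_option autoImplicit false

namespace CfsgLib.Steiner

open Cfsg CfsgLib.AbsGolay
open scoped symmDiff

variable {α : Type*} [Fintype α] [DecidableEq α] {B : Set (Finset α)}

/-- A block with two extra points. -/
abbrev up2 (b : Finset α) : Finset (Option (Option α)) := up (up b)

/-- The part of a set away from the two extra points. -/
abbrev core (Z : Finset (Option (Option α))) : Finset α := Z.eraseNone.eraseNone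

/-- The number of extra points in a set. -/
def extra (Z : Finset (Option (Option α))) : ℕ :=
  (if none ∈ Z then 1 else 0) + (if some none ∈ Z then 1 else 0)

/-- Meets every extended block evenly. -/
def InD (B : Set (Finset α)) (Z : Finset (Option (Option α))) : Prop :=
  ∀ b ∈ B, Even (up2 b ∩ Z).card

omit [Fintype α] in
theorem up2_inter (b : Finset α) (Z : Finset (Option (Option α))) :
    (up2 b ∩ Z).card = (b ∩ core Z).card + extra Z := by
  rw [up_inter, up_inter, extra]
  simp only [Finset.mem_eraseNone, core]
  omega

omit [Fintype α] in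
theorem card_eq_core (Z : Finset (Option (Option α))) : Z.card = (core Z).card + extra Z := by
  have h : ∀ {γ : Type _} [DecidableEq γ] (W : Finset (Option γ)),
      W.card = W.eraseNone.card + (if none ∈ W then 1 else 0) := by
    intro γ _ W
    split_ifs with hn
    · rw [Finset.card_eraseNone_of_mem hn]
      have := Finset.card_pos.2 ⟨_, hn⟩
      omega
    · rw [Finset.card_eraseNone_of_not_mem hn]; omega
  rw [h Z, h Z.eraseNone, extra]
  simp only [Finset.mem_eraseNone, core]
  omega

/-- Both parities for sets of at most five points in an S(3,6,22). -/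
theorem parities_22 (hB : IsSteinerSystem 3 6 B) (hα : Fintype.card α = 22) (Y : Finset α)
    (hY : Y.card ≤ 5) : ∃ b ∈ B, Even (b ∩ Y).card := by
  have pick : ∀ j, 0 < meet B Y j → ∃ b ∈ B, (b ∩ Y).card = j := fun j h => by
    obtain ⟨b, hb⟩ := Finset.card_pos.1 h
    exact ⟨b, mem_blocks.1 (Finset.mem_filter.1 hb).1, (Finset.mem_filter.1 hb).2⟩
  have m0 := moments hB Y (i := 0) (by omega)
  have m1 := moments hB Y (i := 1) (by omega)
  have m2 := moments hB Y (i := 2) (by omega)
  have m3 := moments hB Y (i := 3) (by omega)
  have key : 0 < meet B Y 0 ∨ 0 < meet B Y 2 := by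
    interval_cases e : Y.card <;>
    · simp [hα, Finset.sum_range_succ, Nat.choose_eq_descFactorial_div_factorial,
        Nat.descFactorial_succ, Nat.factorial] at m0 m1 m2 m3
      omega
  rcases key with h | h
  · obtain ⟨b, hb, e⟩ := pick 0 h; exact ⟨b, hb, by rw [e]; decide⟩
  · obtain ⟨b, hb, e⟩ := pick 2 h; exact ⟨b, hb, by rw [e]; decide⟩

theorem inter_even_22 (hB : IsSteinerSystem 3 6 B) (hα : Fintype.card α = 22) {b c : Finset α}
    (hb : b ∈ B) (hc : c ∈ B) : Even (b ∩ c).card := by
  rcases eq_or_ne b c with rfl | h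
  · rw [Finset.inter_self, hB.1 b hb]; decide
  have hp := meet_pos (Y := c) hb
  obtain ⟨-, h1, -, h3, h4, h5, -⟩ := meet_22 hB hα hc
  have : (b ∩ c).card < 3 := by
    by_contra h'
    exact h (unique_block hB hb hc (by omega))
  interval_cases e : (b ∩ c).card <;> simp_all

/-- Small sets met evenly by all blocks. -/
theorem even_small_22 (hB : IsSteinerSystem 3 6 B) (hα : Fintype.card α = 22) (Y : Finset α)
    (hY : Y.card ≤ 6) (hev : ∀ b ∈ B, Even (b ∩ Y).card) : Y = ∅ ∨ Y ∈ B := by
  -- no nonempty set of at most four points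
  have le2 : ∀ Y : Finset α, 1 ≤ Y.card → Y.card ≤ 3 → ¬ ∀ b ∈ B, Even (b ∩ Y).card := by
    intro Y h1 h3 h
    have m0 := moments hB Y (i := 0) (by omega)
    have m1 := moments hB Y (i := 1) (by omega)
    have m2 := moments hB Y (i := 2) (by omega)
    have m3 := moments hB Y (i := 3) (by omega)
    have z : meet B Y 1 = 0 := by
      rw [meet, Finset.card_eq_zero, Finset.filter_eq_empty_iff]
      intro c hc e
      have := h c (mem_blocks.1 hc)
      rw [e] at this
      exact absurd this (by decide)
    interval_cases e : Y.card <;>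
      simp [hα, Finset.sum_range_succ, Nat.choose_eq_descFactorial_div_factorial,
        Nat.descFactorial_succ, Nat.factorial, z] at m0 m1 m2 m3 <;> omega
  have flip : ∀ Y : Finset α, (∀ b ∈ B, Even (b ∩ Y).card) → ∀ b ∈ B,
      ∀ g ∈ B, Even (g ∩ (Y ∆ b)).card := by
    intro Y hev b hb g hg
    have h := hev g hg
    have h' := inter_even_22 hB hα hg hb
    rw [show g ∩ (Y ∆ b) = (g ∩ Y) ∆ (g ∩ b) by ext x; simp [Finset.mem_symmDiff]; tauto,
      symmDiff_def, Finset.sup_eq_union, Finset.card_union_of_disjoint disjoint_sdiff_sdiff]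
    have h1 := Finset.card_sdiff_add_card_inter (g ∩ Y) (g ∩ b)
    have h2 := Finset.card_sdiff_add_card_inter (g ∩ b) (g ∩ Y)
    rw [Finset.inter_comm (g ∩ b) (g ∩ Y)] at h2
    rw [Nat.even_iff] at h h' ⊢
    omega
  have split : ∀ Y : Finset α, (∀ b ∈ B, Even (b ∩ Y).card) → 4 ≤ Y.card → ∃ b ∈ B,
      4 ≤ (b ∩ Y).card ∧ Even (b ∩ Y).card ∧ (b ∩ Y).card ≤ Y.card ∧
      (Y ∆ b).card + 2 * (b ∩ Y).card = 6 + Y.card := by
    intro Y hev h4
    obtain ⟨s, hs, hsc⟩ := Finset.exists_subset_card_eq (s := Y) (n := 3) (by omega)
    obtain ⟨b, ⟨hb, hsb⟩, -⟩ := hB.2 s hsc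
    refine ⟨b, hb, ?_, hev b hb, Finset.card_le_card Finset.inter_subset_right, ?_⟩
    · have h1 := Finset.card_le_card (Finset.subset_inter hsb hs)
      have h2 := hev b hb
      rw [Nat.even_iff] at h2
      omega
    · rw [symmDiff_def, Finset.sup_eq_union, Finset.card_union_of_disjoint disjoint_sdiff_sdiff]
      have h1 := Finset.card_sdiff_add_card_inter Y b
      have h2 := Finset.card_sdiff_add_card_inter b Y
      rw [Finset.inter_comm Y b] at h1
      have := hB.1 b hb
      omega
  have four : ∀ Y : Finset α, Y.card = 4 → ¬ ∀ b ∈ B, Even (b ∩ Y).card := by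
    intro Y h4 hev
    obtain ⟨b, hb, hl, -, hu, hc⟩ := split Y hev (by omega)
    exact le2 (Y ∆ b) (by omega) (by omega) (flip Y hev b hb)
  rcases Nat.eq_zero_or_pos Y.card with h | h
  · exact Or.inl (Finset.card_eq_zero.1 h)
  right
  rcases lt_or_ge Y.card 4 with h' | h'
  · exact absurd hev (le2 Y h (by omega))
  obtain ⟨b, hb, hl, he, hu, hc⟩ := split Y hev h'
  rw [Nat.even_iff] at he
  rcases lt_trichotomy (Y ∆ b).card 4 with hd | hd | hd
  · rcases Nat.eq_zero_or_pos (Y ∆ b).card with h0 | h0
    · rw [symmDiff_eq_bot.1 (Finset.card_eq_zero.1 h0)]; exact hb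
    · exact absurd (flip Y hev b hb) (le2 _ h0 (by omega))
  · exact absurd (flip Y hev b hb) (four _ hd)
  · omega

theorem InD.symmDiff_inD {Z W : Finset (Option (Option α))} (hZ : InD B Z) (hW : InD B W) :
    InD B (Z ∆ W) := by
  intro b hb
  have h1 := hZ b hb
  have h2 := hW b hb
  rw [show up2 b ∩ (Z ∆ W) = (up2 b ∩ Z) ∆ (up2 b ∩ W) by ext x; simp [Finset.mem_symmDiff]; tauto,
    symmDiff_def, Finset.sup_eq_union, Finset.card_union_of_disjoint disjoint_sdiff_sdiff]
  have e1 := Finset.card_sdiff_add_card_inter (up2 b ∩ Z) (up2 b ∩ W)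
  have e2 := Finset.card_sdiff_add_card_inter (up2 b ∩ W) (up2 b ∩ Z)
  rw [Finset.inter_comm (up2 b ∩ W) (up2 b ∩ Z)] at e2
  rw [Nat.even_iff] at h1 h2 ⊢
  omega

/-- Such a set has even size. -/
theorem InD.card_even (hB : IsSteinerSystem 3 6 B) (hα : Fintype.card α = 22)
    {Z : Finset (Option (Option α))} (hZ : InD B Z) : Even Z.card := by
  classical
  obtain ⟨p⟩ : Nonempty α := Fintype.card_pos_iff.1 (by omega)
  set F := (blocks B).filter ({p} ⊆ ·) with hF
  have hFc : F.card = 21 := by
    have := card_containing hB (X := ({p} : Finset α)) (by simp)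
    simp [hα, Nat.choose_eq_descFactorial_div_factorial, Nat.descFactorial_succ, Nat.factorial] at this
    simp only [hF, Finset.singleton_subset_iff]
    omega
  have hodd : ∀ x ∈ Z, (F.filter fun b => x ∈ up2 b).card % 2 = 1 := by
    intro x _
    have hall : (∀ b : Finset α, x ∈ up2 b) → (F.filter fun b => x ∈ up2 b).card % 2 = 1 := fun h => by
      rw [Finset.filter_true_of_mem fun b _ => h b, hFc]
    match x with
    | none => exact hall fun b => none_mem_up _
    | some none => exact hall fun b => some_mem_up.2 (none_mem_up _)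
    | some (some q) =>
      rcases eq_or_ne q p with rfl | hqp
      · rw [Finset.filter_true_of_mem fun b hb => ?_, hFc]
        rw [hF, Finset.mem_filter, Finset.singleton_subset_iff] at hb
        exact some_mem_up.2 (some_mem_up.2 hb.2)
      · have h5 := card_containing hB (X := ({q, p} : Finset α)) (by rw [Finset.card_pair hqp]; omega)
        simp [Finset.card_pair hqp, hα, Nat.choose_eq_descFactorial_div_factorial,
          Nat.descFactorial_succ, Nat.factorial] at h5
        have e : F.filter (fun b => some (some q) ∈ up2 b) = (blocks B).filter (fun b => {q, p} ⊆ b) := by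
          ext b
          simp [hF, some_mem_up, Finset.insert_subset_iff]
          tauto
        rw [e]
        omega
  have hsum : ∑ b ∈ F, (up2 b ∩ Z).card = ∑ x ∈ Z, (F.filter fun b => x ∈ up2 b).card := by
    simp only [Finset.card_filter]
    rw [Finset.sum_comm]
    refine Finset.sum_congr rfl fun b _ => ?_
    rw [← Finset.card_filter]
    exact congrArg Finset.card (by ext; simp [and_comm])
  have h0 : (∑ b ∈ F, (up2 b ∩ Z).card) % 2 = 0 := by
    rw [Finset.sum_nat_mod, Finset.sum_eq_zero fun b hb =>
      Nat.even_iff.1 (hZ b (mem_blocks.1 (Finset.mem_filter.1 hb).1)), Nat.zero_mod]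
  rw [hsum, Finset.sum_nat_mod, Finset.sum_congr rfl hodd, Finset.sum_const, smul_eq_mul, mul_one] at h0
  exact Nat.even_iff.2 h0

/-- A set away from the second extra point. -/
def lift (s : Finset α) (e : Bool) : Finset (Option (Option α)) :=
  (s.map Function.Embedding.some).map Function.Embedding.some ∪ bif e then {none} else ∅

omit [Fintype α] in
theorem core_lift (s : Finset α) (e : Bool) : core (lift s e) = s := by
  ext x
  cases e <;> simp [lift, core, Finset.mem_eraseNone]

omit [Fintype α] in
theorem extra_lift (s : Finset α) (e : Bool) : extra (lift s e) = bif e then 1 else 0 := by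
  cases e <;> simp [lift, extra]

omit [Fintype α] in
theorem card_lift (s : Finset α) (e : Bool) : (lift s e).card = s.card + bif e then 1 else 0 := by
  rw [card_eq_core, core_lift, extra_lift]

omit [Fintype α] in
theorem lift_symmDiff (s t : Finset α) (e d : Bool) : lift s e ∆ lift t d = lift (s ∆ t) (e != d) := by
  ext x
  match x with
  | none => cases e <;> cases d <;> simp [lift, Finset.mem_symmDiff]
  | some none => cases e <;> cases d <;> simp [lift, Finset.mem_symmDiff]
  | some (some q) => cases e <;> cases d <;> simp [lift, Finset.mem_symmDiff]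

/-- Small members of the lifted family. -/
theorem InD.lift_cases (hB : IsSteinerSystem 3 6 B) (hα : Fintype.card α = 22) {s : Finset α}
    {e : Bool} (h : InD B (lift s e)) (hs : s.card ≤ 6) : e = false ∧ (s = ∅ ∨ s ∈ B) := by
  have hev : ∀ b ∈ B, Even ((b ∩ s).card + bif e then 1 else 0) := fun b hb => by
    have := h b hb
    rwa [up2_inter, core_lift, extra_lift] at this
  cases e
  · exact ⟨rfl, even_small_22 hB hα s hs (by simpa using hev)⟩
  · exfalso
    have hpar := h.card_even hB hα
    rw [card_lift, cond_true, Nat.even_add_one, Nat.not_even_iff] at hpar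
    obtain ⟨b, hb, hb'⟩ := parities_22 hB hα s (by omega)
    have := hev b hb
    rw [cond_true, Nat.even_add_one] at this
    exact this hb'

/-- The extended blocks on labelled points. -/
def fam22 (g : Option (Option α) ≃ Fin 24) (B : Set (Finset α)) : Set (Finset (Fin 24)) :=
  (fun b => (up2 b).image g) '' B

theorem fam22_even (hB : IsSteinerSystem 3 6 B) (hα : Fintype.card α = 22)
    (g : Option (Option α) ≃ Fin 24) {c : Finset (Fin 24)} (hc : c ∈ fam22 g B) {d : Finset (Fin 24)}
    (hd : d ∈ fam22 g B) : Even (c ∩ d).card := by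
  obtain ⟨b, hb, rfl⟩ := hc
  obtain ⟨b', hb', rfl⟩ := hd
  rw [← Finset.image_inter _ _ g.injective, Finset.card_image_of_injective _ g.injective, up2_inter]
  have h1 : core (up2 b') = b' := by ext x; simp [core, some_mem_up]
  have h2 : extra (up2 b') = 2 := by simp [extra, none_mem_up, some_mem_up]
  rw [h1, h2, Nat.even_add]
  simp [inter_even_22 hB hα hb hb']

theorem finrank_code22 (hB : IsSteinerSystem 3 6 B) (hα : Fintype.card α = 22)
    (g : Option (Option α) ≃ Fin 24) :
    Module.finrank (ZMod 2) (codeOf (fam22 g B)) ≤ 11 := by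
  classical
  set C := codeOf (fam22 g B) with hC
  have hEv : Even8 (fam22 g B) := ⟨by
      rintro _ ⟨b, hb, rfl⟩
      rw [Finset.card_image_of_injective _ g.injective, card_up, card_up, hB.1 b hb],
    fun c hc d hd _ => fam22_even hB hα g hc hd⟩
  let e : V ≃ₗ[ZMod 2] Module.Dual (ZMod 2) V := dotProductEquiv (ZMod 2) (Fin 24)
  let D : Submodule (ZMod 2) V := C.dualAnnihilator.comap e.toLinearMap
  have hsum : Module.finrank (ZMod 2) C + Module.finrank (ZMod 2) D = 24 := by
    have h := Subspace.finrank_add_finrank_dualAnnihilator_eq C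
    rw [Module.finrank_fin_fun] at h
    rwa [show D = C.dualAnnihilator.map e.symm.toLinearMap from
      Submodule.comap_equiv_eq_map_symm e _, LinearEquiv.finrank_map_eq]
  have horth := codeOf_orth hEv
  have hle : C ≤ D := fun v hv => (Submodule.mem_dualAnnihilator _).2 fun w hw => horth v hv w hw
  have hmono := Submodule.finrank_mono hle
  by_contra h12
  have heq := Submodule.eq_of_le_of_finrank_le hle (by omega)
  set W : Finset (Option (Option α)) := {none, some none} with hW
  have hWD : wordS (W.image g) ∈ D := by
    refine (Submodule.mem_dualAnnihilator _).2 fun w hw => ?_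
    show ∑ i, wordS (W.image g) i * w i = 0
    induction hw using Submodule.span_induction with
    | zero => simp
    | add p q _ _ hp hq => simp [mul_add, Finset.sum_add_distrib, hp, hq]
    | smul a p _ hp => simp [mul_left_comm _ a, ← Finset.mul_sum, hp]
    | mem p hp =>
      obtain ⟨_, ⟨b, hb, rfl⟩, rfl⟩ := hp
      rw [dot_wordS, ← Finset.image_inter _ _ g.injective, Finset.card_image_of_injective _ g.injective,
        Finset.inter_eq_left.2 (by
          intro x hx
          simp only [hW, Finset.mem_insert, Finset.mem_singleton] at hx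
          rcases hx with rfl | rfl
          · exact none_mem_up _
          · exact some_mem_up.2 (none_mem_up _)), hW, Finset.card_pair (by simp)]
      rfl
  rw [← heq] at hWD
  have := codeOf_dvd hEv _ hWD
  rw [Finset.card_image_of_injective _ g.injective, hW, Finset.card_pair (by simp)] at this
  omega

/-- An eighth word meeting every extended block evenly. -/
theorem exists_word22 (hB : IsSteinerSystem 3 6 B) (hα : Fintype.card α = 22)
    (g : Option (Option α) ≃ Fin 24) : ∃ t : Finset α, t.card = 7 ∧ InD B (lift t true) := by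
  classical
  set C := codeOf (fam22 g B) with hC
  -- the syndrome of a set
  let syn : Finset (Option (Option α)) → Module.Dual (ZMod 2) C := fun Z =>
    (dotProductEquiv (ZMod 2) (Fin 24) (wordS (Z.image g))).domRestrict C
  have hcardD : Nat.card (Module.Dual (ZMod 2) C) ≤ 2048 := by
    rw [Module.natCard_eq_pow_finrank (K := ZMod 2), Nat.card_zmod, Subspace.dual_finrank_eq]
    exact (Nat.pow_le_pow_right (by omega) (finrank_code22 hB hα g)).trans (by norm_num)
  have hsyn : ∀ Z W, syn Z = syn W → InD B (Z ∆ W) := by
    intro Z W h b hb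
    have h' := LinearMap.congr_fun h ⟨_, Submodule.subset_span ⟨_, ⟨b, hb, rfl⟩, rfl⟩⟩
    change ∑ i, wordS (Z.image g) i * wordS ((up2 b).image g) i =
      ∑ i, wordS (W.image g) i * wordS ((up2 b).image g) i at h'
    rw [dot_wordS, dot_wordS, ← Finset.image_inter _ _ g.injective, ← Finset.image_inter _ _ g.injective,
      Finset.card_image_of_injective _ g.injective, Finset.card_image_of_injective _ g.injective,
      ZMod.natCast_eq_natCast_iff', Finset.inter_comm Z, Finset.inter_comm W] at h'
    rw [show up2 b ∩ (Z ∆ W) = (up2 b ∩ Z) ∆ (up2 b ∩ W) by ext x; simp [Finset.mem_symmDiff]; tauto,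
      symmDiff_def, Finset.sup_eq_union, Finset.card_union_of_disjoint disjoint_sdiff_sdiff]
    have e1 := Finset.card_sdiff_add_card_inter (up2 b ∩ Z) (up2 b ∩ W)
    have e2 := Finset.card_sdiff_add_card_inter (up2 b ∩ W) (up2 b ∩ Z)
    rw [Finset.inter_comm (up2 b ∩ W) (up2 b ∩ Z)] at e2
    rw [Nat.even_iff]
    omega
  have same : ∀ s t : Finset α, ∀ e d : Bool, s.card ≤ 3 → t.card ≤ 3 → syn (lift s e) = syn (lift t d) →
      e = d ∧ (s = t ∨ s ∆ t ∈ B) := by
    intro s t e d hs ht h
    have h' := hsyn _ _ h
    rw [lift_symmDiff] at h'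
    have hc : (s ∆ t).card ≤ 6 := by
      rw [symmDiff_def, Finset.sup_eq_union, Finset.card_union_of_disjoint disjoint_sdiff_sdiff]
      have := Finset.card_le_card (Finset.sdiff_subset : s \ t ⊆ s)
      have := Finset.card_le_card (Finset.sdiff_subset : t \ s ⊆ t)
      omega
    obtain ⟨he, hst⟩ := h'.lift_cases hB hα hc
    refine ⟨by revert he; cases e <;> cases d <;> simp, hst.imp_left fun h0 => symmDiff_eq_bot.1 h0⟩
  have cardsd : ∀ s t : Finset α, (s ∆ t).card + 2 * (s ∩ t).card = s.card + t.card := by
    intro s t
    rw [symmDiff_def, Finset.sup_eq_union, Finset.card_union_of_disjoint disjoint_sdiff_sdiff]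
    have h1 := Finset.card_sdiff_add_card_inter s t
    have h2 := Finset.card_sdiff_add_card_inter t s
    rw [Finset.inter_comm t s] at h2
    omega
  let U : Finset (Finset α) := Finset.univ
  let small := ((Finset.range 3).biUnion fun k => (Finset.univ : Finset α).powersetCard k) ×ˢ
    (Finset.univ : Finset Bool)
  let big := (Finset.univ : Finset α).powersetCard 3 ×ˢ (Finset.univ : Finset Bool)
  let f : Finset α × Bool → Module.Dual (ZMod 2) C := fun x => syn (lift x.1 x.2)
  have hs2 : ∀ x ∈ small, x.1.card ≤ 2 := fun x hx => by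
    simp only [small, Finset.mem_product, Finset.mem_biUnion, Finset.mem_range, Finset.mem_powersetCard]
      at hx
    obtain ⟨⟨k, hk, -, h⟩, -⟩ := hx
    omega
  have hb3 : ∀ x ∈ big, x.1.card = 3 := fun x hx => by
    simp only [big, Finset.mem_product, Finset.mem_powersetCard] at hx
    exact hx.1.2
  have eq_small : ∀ x y : Finset α × Bool, x.1.card + y.1.card ≤ 5 → x.1.card ≤ 3 → y.1.card ≤ 3 →
      f x = f y → x = y := by
    intro x y h5 hx hy h
    obtain ⟨he, hst | hst⟩ := same _ _ _ _ hx hy h
    · exact Prod.ext hst he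
    · have := cardsd x.1 y.1
      have := hB.1 _ hst
      omega
  have hinj : Set.InjOn f (small : Set (Finset α × Bool)) := fun x hx y hy h =>
    eq_small x y (by have := hs2 x hx; have := hs2 y hy; omega) (by have := hs2 x hx; omega)
      (by have := hs2 y hy; omega) h
  have hdis : Disjoint (small.image f) (big.image f) := by
    refine Finset.disjoint_left.2 fun z hz hz' => ?_
    obtain ⟨x, hx, rfl⟩ := Finset.mem_image.1 hz
    obtain ⟨y, hy, e⟩ := Finset.mem_image.1 hz'
    have := hs2 x hx
    have := hb3 y hy
    have := eq_small y x (by omega) (by omega) (by omega) e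
    subst this
    omega
  have hfib : ∀ z ∈ big.image f, (big.filter fun x => f x = z).card ≤ 2 := by
    intro z hz
    obtain ⟨x, hx, rfl⟩ := Finset.mem_image.1 hz
    obtain ⟨b, ⟨hb, hxb⟩, -⟩ := hB.2 x.1 (hb3 x hx)
    refine (Finset.card_le_card (t := {x, (b \ x.1, x.2)}) fun y hy => ?_).trans Finset.card_le_two
    obtain ⟨hy, hfy⟩ := Finset.mem_filter.1 hy
    have h3 := hb3 y hy
    have h3' := hb3 x hx
    obtain ⟨he, hst | hst⟩ := same _ _ _ _ (by omega) (by omega) hfy
    · simp [Prod.ext hst he]
    · have hc := cardsd y.1 x.1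
      have h6 := hB.1 _ hst
      have hdj : y.1 ∩ x.1 = ∅ := Finset.card_eq_zero.1 (by omega)
      have hbe : b = y.1 ∆ x.1 := (hB.2 x.1 h3').unique ⟨hb, hxb⟩ ⟨hst, fun q hq =>
        Finset.mem_symmDiff.2 (Or.inr ⟨hq, fun h => by
          have : q ∈ y.1 ∩ x.1 := Finset.mem_inter.2 ⟨h, hq⟩
          rw [hdj] at this
          simp at this⟩)⟩
      simp only [Finset.mem_insert, Finset.mem_singleton]
      refine Or.inr (Prod.ext ?_ he)
      rw [hbe]
      ext q
      simp only [Finset.mem_sdiff, Finset.mem_symmDiff]
      refine ⟨fun h => ⟨Or.inl ⟨h, fun h' => ?_⟩, fun h' => ?_⟩, fun h => by tauto⟩ <;>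
      · have : q ∈ y.1 ∩ x.1 := Finset.mem_inter.2 ⟨h, h'⟩
        rw [hdj] at this
        simp at this
  have csmall : small.card = 508 := by
    simp only [small, Finset.card_product, Finset.card_univ, Fintype.card_bool]
    rw [Finset.card_biUnion]
    · simp only [Finset.card_powersetCard, Finset.card_univ, hα]; decide +kernel
    · intro a _ b _ hab
      exact Finset.disjoint_left.2 fun u hu hu' =>
        hab ((Finset.mem_powersetCard.1 hu).2.symm.trans (Finset.mem_powersetCard.1 hu').2)
  have cbig : big.card = 3080 := by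
    simp only [big, Finset.card_product, Finset.card_powersetCard, Finset.card_univ, Fintype.card_bool, hα]
    decide +kernel
  have himg : 1540 ≤ (big.image f).card := by
    have := Finset.card_eq_sum_card_image f big
    have h2 : ∑ z ∈ big.image f, (big.filter fun x => f x = z).card ≤ 2 * (big.image f).card := by
      refine (Finset.sum_le_sum hfib).trans ?_
      rw [Finset.sum_const, smul_eq_mul, mul_comm]
    omega
  have : Finite (Module.Dual (ZMod 2) C) := Module.finite_of_finite (ZMod 2)
  let : Fintype (Module.Dual (ZMod 2) C) := Fintype.ofFinite _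
  have hall : small.image f ∪ big.image f = Finset.univ := by
    refine Finset.eq_univ_of_card _ (le_antisymm (Finset.card_le_univ _) ?_)
    rw [Finset.card_union_of_disjoint hdis, Finset.card_image_of_injOn hinj, csmall,
      ← Nat.card_eq_fintype_card]
    omega
  -- four points in no block
  obtain ⟨s3, -, hs3⟩ := Finset.exists_subset_card_eq (s := (Finset.univ : Finset α)) (n := 3)
    (by rw [Finset.card_univ, hα]; omega)
  obtain ⟨b0, ⟨hb0, hs3b⟩, -⟩ := hB.2 s3 hs3
  obtain ⟨w, hw⟩ : ∃ w, w ∉ b0 := by
    by_contra h
    push Not at h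
    have := Finset.card_le_card (fun x _ => h x : Finset.univ ⊆ b0)
    rw [Finset.card_univ, hα, hB.1 b0 hb0] at this
    omega
  set s := insert w s3 with hs
  have hsc : s.card = 4 := by rw [hs, Finset.card_insert_of_notMem (fun h => hw (hs3b h)), hs3]
  have hno : ∀ b ∈ B, ¬ s ⊆ b := fun b hb h => by
    obtain ⟨h1, h2⟩ := Finset.insert_subset_iff.1 h
    exact hw ((hB.2 s3 hs3).unique ⟨hb, h2⟩ ⟨hb0, hs3b⟩ ▸ h1)
  have hm : syn (lift s false) ∈ small.image f ∪ big.image f := hall ▸ Finset.mem_univ _
  obtain ⟨x, hx, hfx⟩ : ∃ x : Finset α × Bool, x.1.card ≤ 3 ∧ f x = syn (lift s false) := by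
    rcases Finset.mem_union.1 hm with h | h <;> obtain ⟨x, hx, e⟩ := Finset.mem_image.1 h
    · exact ⟨x, by have := hs2 x hx; omega, e⟩
    · exact ⟨x, (hb3 x hx).le, e⟩
  obtain ⟨t, e⟩ := x
  simp only [f] at hfx
  have hD := hsyn _ _ hfx.symm
  rw [lift_symmDiff] at hD
  have hpar := hD.card_even hB hα
  rw [card_lift, Nat.even_iff] at hpar
  have hc := cardsd s t
  simp only at hx
  rcases Nat.lt_or_ge (s ∆ t).card 7 with h7 | h7
  · exfalso
    obtain ⟨he, h0 | hblk⟩ := hD.lift_cases hB hα (by omega)
    · have := symmDiff_eq_bot.1 h0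
      subst this
      omega
    · have hc6 := hB.1 _ hblk
      have hdj : s ∩ t = ∅ := Finset.card_eq_zero.1 (by
        have : t.card ≠ 3 := fun h3 => by rw [he] at hpar; simp at hpar; omega
        omega)
      exact hno _ hblk fun q hq => Finset.mem_symmDiff.2 (Or.inl ⟨hq, fun h => by
        have : q ∈ s ∩ t := Finset.mem_inter.2 ⟨hq, h⟩
        rw [hdj] at this
        simp at this⟩)
  · have h7' : (s ∆ t).card = 7 := by omega
    refine ⟨s ∆ t, h7', ?_⟩
    cases e
    · rw [h7'] at hpar; simp at hpar
    · simpa using hD

/-- The family with the eighth word is an even family. -/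
theorem evenFamily_22 (hB : IsSteinerSystem 3 6 B) (hα : Fintype.card α = 22)
    (g : Option (Option α) ≃ Fin 24) {t : Finset α} (ht : t.card = 7) (hD : InD B (lift t true)) :
    EvenFamily (insert ((lift t true).image g) (fam22 g B)) where
  card8 := by
    rintro _ (rfl | ⟨b, hb, rfl⟩)
    · rw [Finset.card_image_of_injective _ g.injective, card_lift, ht]; rfl
    · rw [Finset.card_image_of_injective _ g.injective, card_up, card_up, hB.1 b hb]
  even := by
    rintro c hc d hd hne
    rcases hc with rfl | hc <;> rcases hd with rfl | hd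
    · exact absurd rfl hne
    · obtain ⟨b, hb, rfl⟩ := hd
      rw [← Finset.image_inter _ _ g.injective, Finset.card_image_of_injective _ g.injective,
        Finset.inter_comm]
      exact hD b hb
    · obtain ⟨b, hb, rfl⟩ := hc
      rw [← Finset.image_inter _ _ g.injective, Finset.card_image_of_injective _ g.injective]
      exact hD b hb
    · exact fam22_even hB hα g hc hd
  odd := by
    intro Z' h1 h6
    by_contra hcon
    push Not at hcon
    set Z := Z'.image g.symm with hZdef
    have hZ' : Z' = Z.image g := by rw [hZdef, image_symm]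
    have hZc : Z.card = Z'.card := Finset.card_image_of_injective _ g.symm.injective
    have hm : ∀ W : Finset (Option (Option α)), (W.image g ∩ Z').card = (W ∩ Z).card := fun W => by
      rw [hZ', ← Finset.image_inter _ _ g.injective, Finset.card_image_of_injective _ g.injective]
    have hZD : InD B Z := fun b hb => by
      rw [← hm]; exact hcon _ (Or.inr ⟨b, hb, rfl⟩)
    have hY : Even (lift t true ∩ Z).card := by rw [← hm]; exact hcon _ (Or.inl rfl)
    have hcc := card_eq_core Z
    have hpar := hZD.card_even hB hα
    rw [Nat.even_iff] at hpar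
    have hex : extra Z = 0 ∨ extra Z = 1 ∨ extra Z = 2 := by unfold extra; split_ifs <;> simp
    have hev : ∀ b ∈ B, Even ((b ∩ core Z).card + extra Z) := fun b hb => by
      rw [← up2_inter]; exact hZD b hb
    rcases hex with h0 | h0 | h0
    · rw [h0] at hcc hev
      rcases even_small_22 hB hα (core Z) (by omega) (by simpa using hev) with h | h
      · rw [h, Finset.card_empty] at hcc; omega
      · have hnn : none ∉ Z ∧ some none ∉ Z := by
          unfold extra at h0
          by_cases h1 : none ∈ Z <;> by_cases h2 : some none ∈ Z <;> simp [h1, h2] at h0 ⊢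
        have hZe : Z = lift (core Z) false := by
          ext x
          match x with
          | none => simp [lift, hnn.1]
          | some none => simp [lift, hnn.2]
          | some (some q) => simp [lift, Finset.mem_eraseNone]
        have e1 := hD (core Z) h
        rw [up2_inter, core_lift, extra_lift, cond_true, Nat.even_add_one] at e1
        apply e1
        have e2 := hY
        rw [hZe, show lift t true ∩ lift (core Z) false = lift (core Z ∩ t) false by
          ext x
          match x with
          | none => simp [lift]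
          | some none => simp [lift]
          | some (some q) => simp [lift, and_comm],
          card_lift] at e2
        simpa using e2
    · rw [h0] at hev hcc
      obtain ⟨b, hb, hb'⟩ := parities_22 hB hα (core Z) (by omega)
      exact absurd (hev b hb) (by rw [Nat.even_add_one]; exact not_not.2 hb')
    · rw [h0] at hev hcc
      rcases even_small_22 hB hα (core Z) (by omega)
          (fun b hb => by have := hev b hb; rwa [Nat.even_add, iff_true_right (by decide)] at this) with h | h
      · have hnn : none ∈ Z ∧ some none ∈ Z := by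
          unfold extra at h0
          by_cases h1 : none ∈ Z <;> by_cases h2 : some none ∈ Z <;> simp [h1, h2] at h0 ⊢
        have hZe : lift t true ∩ Z = {none} := by
          ext x
          match x with
          | none => simp [lift, hnn.1]
          | some none => simp [lift]
          | some (some q) =>
            have : q ∉ core Z := by rw [h]; simp
            simp only [core, Finset.mem_eraseNone] at this
            simp [this]
        rw [hZe] at hY
        simp at hY
      · have := hB.1 _ h; omega

end CfsgLib.Steiner
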