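/-
An S(3,6,22) is the system of octads through two points: uniqueness and automorphism group.
-/
import Cfsg.Agent.Steiner.Ext22
import Cfsg.Agent.Golay.Simple
import Cfsg.Agent.Golay.Invol
import Cfsg.Agent.S0378

set_option autoImplicit false

namespace CfsgLib.Steiner

open Cfsg CfsgLib.AbsGolay CfsgLib.Golay MulAction
open scoped Pointwise

theorem allFam : IsSteinerSystem 5 8 ((fun o => o.image ptEquiv) '' octads) :=
  steiner_image ptEquiv Golay.steiner

/-- A set of octads spanning the code determines the rest. -/
theorem span_family {S : Set (Finset GolayPt)} (hS : ∀ o ∈ S, o ∈ octads)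
    (hF : EvenFamily ((fun o => o.image ptEquiv) '' S)) :
    codeOf ((fun o => o.image ptEquiv) '' S) = codeOf ((fun o => o.image ptEquiv) '' octads) :=
  Submodule.eq_of_le_of_finrank_eq (Submodule.span_mono (Set.image_mono (Set.image_mono hS)))
    ((isGolay_codeOf hF).dim.trans (isGolay_codeOf (evenFamily_of_steiner allFam)).dim.symm)

/-- An eight-set meeting a spanning set of octads evenly is an octad. -/
theorem mem_octads_of_even {S : Set (Finset GolayPt)} (hS : ∀ o ∈ S, o ∈ octads)
    (hF : EvenFamily ((fun o => o.image ptEquiv) '' S)) {W : Finset GolayPt} (hW : W.card = 8)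
    (hev : ∀ o ∈ S, Even (W ∩ o).card) : W ∈ octads := by
  have hm : ∀ X Y : Finset GolayPt, (X.image ptEquiv ∩ Y.image ptEquiv).card = (X ∩ Y).card :=
    fun X Y => by
      rw [← Finset.image_inter _ _ ptEquiv.injective, Finset.card_image_of_injective _ ptEquiv.injective]
  have hF' : EvenFamily ((fun o => o.image ptEquiv) '' insert W S) := by
    refine ⟨?_, ?_, fun Y h1 h6 => ?_⟩
    · rintro _ ⟨o, rfl | ho, rfl⟩
      · rw [Finset.card_image_of_injective _ ptEquiv.injective, hW]
      · exact hF.card8 _ ⟨o, ho, rfl⟩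
    · rintro _ ⟨o, ho, rfl⟩ _ ⟨p, hp, rfl⟩ hne
      rw [hm]
      rcases ho with rfl | ho <;> rcases hp with rfl | hp
      · exact absurd rfl hne
      · exact hev p hp
      · rw [Finset.inter_comm]; exact hev o ho
      · rw [← hm]; exact hF.even _ ⟨o, ho, rfl⟩ _ ⟨p, hp, rfl⟩ hne
    · obtain ⟨b, ⟨o, ho, rfl⟩, h⟩ := hF.odd Y h1 h6
      exact ⟨_, ⟨o, Or.inr ho, rfl⟩, h⟩
  have heq : codeOf ((fun o => o.image ptEquiv) '' S) = codeOf ((fun o => o.image ptEquiv) '' insert W S) :=
    Submodule.eq_of_le_of_finrank_eq
      (Submodule.span_mono (Set.image_mono (Set.image_mono (Set.subset_insert _ _))))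
      ((isGolay_codeOf hF).dim.trans (isGolay_codeOf hF').dim.symm)
  have h1 : wordS (W.image ptEquiv) ∈ codeOf ((fun o => o.image ptEquiv) '' insert W S) :=
    Submodule.subset_span ⟨_, ⟨W, Set.mem_insert _ _, rfl⟩, rfl⟩
  rw [← heq, span_family hS hF] at h1
  obtain ⟨o', ho', e⟩ := (mem_iff_codeOf allFam).2 ⟨h1, by
    rw [Finset.card_image_of_injective _ ptEquiv.injective, hW]⟩
  rwa [← Finset.image_injective ptEquiv.injective e]

/-- A permutation carrying a spanning set of octads to octads is in the group. -/
theorem mem_M24_of_family {S : Set (Finset GolayPt)} (hS : ∀ o ∈ S, o ∈ octads)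
    (hF : EvenFamily ((fun o => o.image ptEquiv) '' S)) {τ : Equiv.Perm GolayPt}
    (hτ : ∀ o ∈ S, τ • o ∈ octads) : τ ∈ M24 := by
  rw [M24_eq_setSystemAut, mem_setSystemAut]
  refine Set.eq_of_subset_of_ncard_le ?_
    (le_of_eq (Set.ncard_image_of_injective _ (MulAction.injective τ)).symm) (Set.toFinite _)
  rintro _ ⟨o, ho, rfl⟩
  show τ • o ∈ octads
  let L : V →ₗ[ZMod 2] V :=
    LinearMap.funLeft (ZMod 2) (ZMod 2) fun i => ptEquiv (τ.symm (ptEquiv.symm i))
  have hL : ∀ s : Finset GolayPt, L (wordS (s.image ptEquiv)) = wordS ((τ • s).image ptEquiv) := by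
    intro s
    funext i
    obtain ⟨p, rfl⟩ := ptEquiv.surjective i
    simp only [L, LinearMap.funLeft_apply, Equiv.symm_apply_apply, wordS]
    simp [ptEquiv.injective.eq_iff, Finset.mem_smul_finset, Equiv.eq_symm_apply]
  have hC : codeOf ((fun o => o.image ptEquiv) '' S) ≤
      (codeOf ((fun o => o.image ptEquiv) '' octads)).comap L := by
    refine Submodule.span_le.2 ?_
    rintro _ ⟨_, ⟨b, hb, rfl⟩, rfl⟩
    simp only [SetLike.mem_coe, Submodule.mem_comap]
    rw [hL]
    exact Submodule.subset_span ⟨_, ⟨τ • b, hτ b hb, rfl⟩, rfl⟩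
  rw [span_family hS hF] at hC
  have h1 : wordS ((τ • o).image ptEquiv) ∈ codeOf ((fun o => o.image ptEquiv) '' octads) := by
    rw [← hL]
    exact hC (Submodule.subset_span ⟨_, ⟨o, ho, rfl⟩, rfl⟩)
  obtain ⟨o', ho', e⟩ := (mem_iff_codeOf allFam).2 ⟨h1, by
    rw [Finset.card_image_of_injective _ ptEquiv.injective, Finset.card_smul_finset, card_of_mem_octads ho]⟩
  rwa [← Finset.image_injective ptEquiv.injective e]

variable {α : Type*} [Fintype α] [DecidableEq α] {B : Set (Finset α)}

/-- A labelling carrying the blocks with two extra points to octads. -/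
theorem exists_label22 (hB : IsSteinerSystem 3 6 B) (hα : Fintype.card α = 22) :
    ∃ E : Option (Option α) ≃ GolayPt, E none = none ∧ E (some none) = some 0 ∧
      (∀ o : Finset α, o ∈ B ↔ (up2 o).image E ∈ octads) ∧
      ∃ t : Finset α, t.card = 7 ∧ InD B (lift t true) ∧ (lift t true).image E ∈ octads := by
  let g : Option (Option α) ≃ Fin 24 :=
    Fintype.equivFinOfCardEq (by rw [Fintype.card_option, Fintype.card_option, hα])
  obtain ⟨t, ht, hD⟩ := exists_word22 hB hα g
  obtain ⟨f, hf⟩ := Unique.exists_equiv_code (isGolay_codeOf (evenFamily_22 hB hα g ht hD))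
  have hne : f (g none) ≠ f (g (some none)) := fun e => by
    simpa using (g.trans f).injective e
  obtain ⟨m, hm, hmi⟩ := exists_map_tuple (n := 2) (by omega) ![f (g none), f (g (some none))]
    ![none, some 0]
    (by intro i j h; fin_cases i <;> fin_cases j <;> simp_all [eq_comm])
    (by intro i j; revert i j; decide)
  let E : Option (Option α) ≃ GolayPt := (g.trans f).trans m
  have hoct : ∀ W : Finset (Option (Option α)), W.image g ∈ insert ((lift t true).image g) (fam22 g B) →
      W.image E ∈ octads := by
    intro W hW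
    have h1 : W.image (g.trans f) ∈ octads := by
      refine ⟨⟨wordOf (W.image (g.trans f)), (hf _).2 ?_, support_wordOf _⟩, ?_⟩
      · refine Submodule.subset_span ⟨W.image g, hW, funext fun i => ?_⟩
        obtain ⟨x, rfl⟩ := g.surjective i
        simp [wordS, wordOf, (f.injective.comp g.injective).eq_iff, g.injective.eq_iff]
      · have h8 := (evenFamily_22 hB hα g ht hD).card8 _ hW
        rw [Finset.card_image_of_injective _ g.injective] at h8
        rw [Finset.card_image_of_injective _ (g.trans f).injective, h8]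
    have h2 := smul_mem_octads hm h1
    convert h2 using 1
    ext y
    simp [Finset.mem_smul_finset, E]
  refine ⟨E, hmi 0, hmi 1, fun o => ⟨fun ho => hoct _ (Or.inr ⟨o, ho, rfl⟩), fun ho => ?_⟩,
    t, ht, hD, hoct _ (Or.inl rfl)⟩
  have h8 := card_of_mem_octads ho
  rw [Finset.card_image_of_injective _ E.injective, card_up, card_up] at h8
  obtain ⟨s, hs, hsc⟩ := Finset.exists_subset_card_eq (s := o) (n := 3) (by omega)
  obtain ⟨b, ⟨hb, hsb⟩, -⟩ := hB.2 s hsc
  have hmono : ∀ {x y : Finset α}, x ⊆ y → up2 x ⊆ up2 y := fun h =>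
    Finset.insert_subset_insert _ (Finset.map_subset_map.2
      (Finset.insert_subset_insert _ (Finset.map_subset_map.2 h)))
  have h5 := octad_unique (hoct _ (Or.inr ⟨b, hb, rfl⟩)) ho (s := (up2 s).image E)
    (by rw [Finset.card_image_of_injective _ E.injective, card_up, card_up, hsc])
    (Finset.image_subset_image (hmono hsb)) (Finset.image_subset_image (hmono hs))
  have h6 := Finset.image_injective E.injective h5
  have : b = o := by
    ext x
    rw [← some_mem_up (b := b), ← some_mem_up (b := up b), ← some_mem_up (b := o), ← some_mem_up (b := up o)]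
    exact iff_of_eq (congrArg (some (some x) ∈ ·) h6)
  exact this ▸ hb

/-- Uniqueness of S(3,6,22). -/
theorem iso22 {β : Type*} [Fintype β] [DecidableEq β] {B' : Set (Finset β)}
    (hB : IsSteinerSystem 3 6 B) (hα : Fintype.card α = 22) (hB' : IsSteinerSystem 3 6 B')
    (hβ : Fintype.card β = 22) : SetSystemIso B B' := by
  obtain ⟨E, h0, h1, hE, -⟩ := exists_label22 hB hα
  obtain ⟨E', h0', h1', hE', -⟩ := exists_label22 hB' hβ
  let F := E.trans E'.symm
  have F0 : F none = none := by simp [F, h0, ← h0']
  have F1 : F (some none) = some none := by simp [F, h1, ← h1']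
  have hs1 : ∀ x, some (Equiv.removeNone F x) = F (some x) := fun x => by
    refine Equiv.removeNone_some F ?_
    cases h : F (some x) with
    | none => exact absurd (F.injective (h.trans F0.symm)) (by simp)
    | some y => exact ⟨y, rfl⟩
  have G0 : Equiv.removeNone F none = none := Option.some_injective _ ((hs1 none).trans F1)
  have hs2 : ∀ x, some (Equiv.removeNone (Equiv.removeNone F) x) = Equiv.removeNone F (some x) := fun x => by
    refine Equiv.removeNone_some _ ?_
    cases h : Equiv.removeNone F (some x) with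
    | none => exact absurd ((Equiv.removeNone F).injective (h.trans G0.symm)) (by simp)
    | some y => exact ⟨y, rfl⟩
  refine ⟨Equiv.removeNone (Equiv.removeNone F), ?_⟩
  set e := Equiv.removeNone (Equiv.removeNone F)
  have hup : ∀ b : Finset α, (up2 (b.image e)).image E' = (up2 b).image E := by
    intro b
    ext y
    obtain ⟨z, rfl⟩ := E'.surjective y
    rw [E'.injective.mem_finset_image]
    obtain ⟨x, rfl⟩ := F.surjective z
    rw [show E' (F x) = E x by simp [F], E.injective.mem_finset_image]
    match x with
    | none => rw [F0]; simp [none_mem_up]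
    | some none => rw [F1]; simp [some_mem_up, none_mem_up]
    | some (some q) =>
      rw [← hs1, ← hs2, some_mem_up, some_mem_up, some_mem_up, some_mem_up]
      exact (Finset.mem_image.trans ⟨fun ⟨a, ha, hae⟩ => e.injective hae ▸ ha, fun h => ⟨q, h, rfl⟩⟩)
  ext o
  constructor
  · rintro ⟨b, hb, rfl⟩
    show b.image e ∈ B'
    rw [hE', hup, ← hE]; exact hb
  · intro ho
    refine ⟨o.image e.symm, ?_, image_symm e o⟩
    rw [hE, ← hup, image_symm, ← hE']; exact ho

/-- The stabiliser of the unordered pair. -/
def pairGroup : Subgroup (Equiv.Perm GolayPt) :=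
  M24 ⊓ stabilizer (Equiv.Perm GolayPt) ({none, some 0} : Finset GolayPt)

theorem mem_pairGroup {τ : Equiv.Perm GolayPt} : τ ∈ pairGroup ↔
    τ ∈ M24 ∧ ∀ x, (τ x = none ∨ τ x = some 0) ↔ (x = none ∨ x = some 0) := by
  rw [pairGroup, Subgroup.mem_inf]
  refine and_congr_right fun _ => ?_
  rw [mem_stabilizer_iff, Finset.ext_iff]
  constructor
  · intro h x
    have := h (τ x)
    rw [← Equiv.Perm.smul_def, Finset.smul_mem_smul_finset_iff] at this
    simpa using this.symm
  · intro h y
    obtain ⟨x, rfl⟩ := τ.surjective y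
    rw [← Equiv.Perm.smul_def, Finset.smul_mem_smul_finset_iff, Equiv.Perm.smul_def]
    simpa using (h x).symm

theorem card_pairGroup : Nat.card pairGroup = 887040 ∧
    ∃ H : Subgroup pairGroup, H.index = 2 ∧ IsM22 H := by
  obtain ⟨w, hw, hwi⟩ := exists_map_tuple (n := 2) (by omega) ![none, some 0] ![some 0, none]
    (by intro i j; revert i j; decide) (by intro i j; revert i j; decide)
  have hwP : w ∈ pairGroup := mem_pairGroup.2 ⟨hw, fun x => by
    have h0 : w none = some 0 := hwi 0
    have h1 : w (some 0) = none := hwi 1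
    constructor
    · rintro (h | h)
      · exact Or.inr (w.injective (h.trans h1.symm))
      · exact Or.inl (w.injective (h.trans h0.symm))
    · rintro (rfl | rfl)
      · exact Or.inr h0
      · exact Or.inl h1⟩
  have e : pairGroup ⊓ stabilizer (Equiv.Perm GolayPt) (none : GolayPt) = fixGroup [2 ^ 23, 2 ^ 0] := by
    ext τ
    rw [Subgroup.mem_inf, mem_pairGroup, Simple.mem_K22]
    constructor
    · rintro ⟨⟨hM, h⟩, h0 : τ none = none⟩
      refine ⟨hM, h0, ((h (some 0)).2 (Or.inr rfl)).resolve_left fun h' => ?_⟩
      have := τ.injective (h'.trans h0.symm)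
      simp at this
    · rintro ⟨hM, h0, h1⟩
      refine ⟨⟨hM, fun x => ⟨?_, ?_⟩⟩, h0⟩
      · rintro (h | h)
        · exact Or.inl (τ.injective (h.trans h0.symm))
        · exact Or.inr (τ.injective (h.trans h1.symm))
      · rintro (rfl | rfl)
        · exact Or.inl h0
        · exact Or.inr h1
  have horb : orbit pairGroup (none : GolayPt) = {none, some 0} := by
    ext y
    constructor
    · rintro ⟨⟨τ, hτ⟩, rfl⟩
      exact ((mem_pairGroup.1 hτ).2 none).2 (Or.inl rfl)
    · rintro (rfl | rfl)
      · exact ⟨1, one_smul _ _⟩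
      · exact ⟨⟨w, hwP⟩, hwi 0⟩
  have hc22 : Nat.card (fixGroup [2 ^ 23, 2 ^ 0]) = 443520 := by
    obtain ⟨ψ⟩ := Simple.equiv_K22 none (some 0) (by decide)
    rw [← Cfsg.Agent.S0378.result none (some 0) (by decide), Nat.card_congr ψ.toEquiv]
  have hcard : Nat.card pairGroup = 887040 := by
    rw [card_eq_mul_of_orbit _ _ _ horb, e, hc22, Set.ncard_pair (by decide)]
  refine ⟨hcard, (fixGroup [2 ^ 23, 2 ^ 0]).subgroupOf pairGroup, ?_, ?_⟩
  · have hle : fixGroup [2 ^ 23, 2 ^ 0] ≤ pairGroup := e ▸ inf_le_left
    have h := Subgroup.card_mul_index ((fixGroup [2 ^ 23, 2 ^ 0]).subgroupOf pairGroup)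
    rw [Nat.card_congr (Subgroup.subgroupOfEquivOfLe hle).toEquiv, hc22, hcard] at h
    omega
  · have hle : fixGroup [2 ^ 23, 2 ^ 0] ≤ pairGroup := e ▸ inf_le_left
    refine ⟨?_, by rw [Nat.card_congr (Subgroup.subgroupOfEquivOfLe hle).toEquiv, hc22]⟩
    haveI := Simple.simple_K22
    exact (Subgroup.subgroupOfEquivOfLe hle).isSimpleGroup

/-- The automorphism group of an S(3,6,22). -/
theorem aut22 (hB : IsSteinerSystem 3 6 B) (hα : Fintype.card α = 22) :
    Nat.card (setSystemAut B) = 887040 ∧ IsMultiplyPretransitive (setSystemAut B) α 3 ∧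
      ∃ H : Subgroup (setSystemAut B), H.index = 2 ∧ IsM22 H := by
  classical
  obtain ⟨E, h0, h1, hE, t, ht, hD, hY⟩ := exists_label22 hB hα
  have hss : ∀ y : GolayPt, y ≠ none → y ≠ some 0 → ∃ q, E (some (some q)) = y := by
    intro y hy hy'
    obtain ⟨x, rfl⟩ := E.surjective y
    match x with
    | none => exact absurd h0 hy
    | some none => exact absurd h1 hy'
    | some (some q) => exact ⟨q, rfl⟩
  have hne : ∀ q, ¬ (E (some (some q)) = none ∨ E (some (some q)) = some 0) := by
    intro q
    rw [← h0, ← h1, E.injective.eq_iff, E.injective.eq_iff]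
    simp
  have hex : ∀ (τ : pairGroup) (q : α), ∃ r, E (some (some r)) = τ.1 (E (some (some q))) := by
    intro τ q
    have h := (mem_pairGroup.1 τ.2).2 (E (some (some q)))
    exact hss _ (fun e => hne q (h.1 (Or.inl e))) (fun e => hne q (h.1 (Or.inr e)))
  choose R hR using hex
  have hinj : Function.Injective fun q => E (some (some q)) := fun a b h =>
    Option.some_injective _ (Option.some_injective _ (E.injective h))
  have hRi : ∀ τ, Function.Bijective (R τ) := fun τ => by
    refine (Fintype.bijective_iff_injective_and_card _).2 ⟨fun a b h => ?_, rfl⟩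
    refine hinj (τ.1.injective ?_)
    rw [← hR τ a, ← hR τ b, h]
  let ρ : pairGroup → Equiv.Perm α := fun τ => Equiv.ofBijective (R τ) (hRi τ)
  have hρ : ∀ τ q, E (some (some (ρ τ q))) = τ.1 (E (some (some q))) := fun τ q => hR τ q
  have himg : ∀ (τ : pairGroup) (b : Finset α), (up2 (ρ τ • b)).image E = τ.1 • (up2 b).image E := by
    intro τ b
    have hpt := (mem_pairGroup.1 τ.2).2
    refine (Finset.eq_of_subset_of_card_le ?_ ?_).symm
    · intro y hy
      rw [Finset.mem_smul_finset] at hy
      obtain ⟨z, hz, rfl⟩ := hy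
      obtain ⟨x, hx, rfl⟩ := Finset.mem_image.1 hz
      rw [Equiv.Perm.smul_def]
      match x with
      | none =>
        rcases (hpt (E none)).2 (Or.inl h0) with e | e <;> rw [e]
        · exact Finset.mem_image.2 ⟨none, none_mem_up _, h0⟩
        · exact Finset.mem_image.2 ⟨some none, some_mem_up.2 (none_mem_up _), h1⟩
      | some none =>
        rcases (hpt (E (some none))).2 (Or.inr h1) with e | e <;> rw [e]
        · exact Finset.mem_image.2 ⟨none, none_mem_up _, h0⟩
        · exact Finset.mem_image.2 ⟨some none, some_mem_up.2 (none_mem_up _), h1⟩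
      | some (some q) =>
        refine Finset.mem_image.2 ⟨some (some (ρ τ q)), some_mem_up.2 (some_mem_up.2 ?_), hρ τ q⟩
        exact Finset.smul_mem_smul_finset (a := ρ τ) (some_mem_up.1 (some_mem_up.1 hx))
    · simp [Finset.card_image_of_injective _ E.injective, card_up]
  have hρA : ∀ τ, ρ τ ∈ setSystemAut B := fun τ => by
    refine mem_stabilizer_iff.2 (Set.eq_of_subset_of_ncard_le ?_
      (le_of_eq (Set.ncard_image_of_injective _ (MulAction.injective _)).symm) (Set.toFinite _))
    rintro _ ⟨b, hb, rfl⟩
    rw [hE]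
    show (up2 (ρ τ • b)).image E ∈ octads
    rw [himg]
    exact smul_mem_octads (mem_pairGroup.1 τ.2).1 ((hE b).1 hb)
  let Φ : pairGroup →* setSystemAut B :=
    { toFun := fun τ => ⟨ρ τ, hρA τ⟩
      map_one' := Subtype.ext (Equiv.ext fun q => hinj (by simp [hρ]))
      map_mul' := fun σ τ => Subtype.ext (Equiv.ext fun q => hinj (by simp [hρ])) }
  have hΦi : Function.Injective Φ := by
    rw [injective_iff_map_eq_one]
    intro τ hτ
    have hfix : ∀ q, τ.1 (E (some (some q))) = E (some (some q)) := fun q => by
      rw [← hρ τ q, show ρ τ = 1 from congrArg Subtype.val hτ, Equiv.Perm.one_apply]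
    rcases ((mem_pairGroup.1 τ.2).2 none).2 (Or.inl rfl) with e | e
    · have e1 := ((mem_pairGroup.1 τ.2).2 (some 0)).2 (Or.inr rfl)
      have e1' : τ.1 (some 0) = some 0 := e1.resolve_left fun h => by
        have := τ.1.injective (h.trans e.symm)
        simp at this
      refine Subtype.ext (Equiv.ext fun y => ?_)
      rcases eq_or_ne y none with rfl | hy
      · exact e
      rcases eq_or_ne y (some 0) with rfl | hy'
      · exact e1'
      obtain ⟨q, rfl⟩ := hss y hy hy'
      exact hfix q
    · exfalso
      have e1' : τ.1 (some 0) = none :=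
        (((mem_pairGroup.1 τ.2).2 (some 0)).2 (Or.inr rfl)).resolve_right fun h => by
          have := τ.1.injective (h.trans e.symm)
          simp at this
      refine Invol.swap_not_mem (show (none : GolayPt) ≠ some 0 by simp) ?_
      convert (mem_pairGroup.1 τ.2).1
      refine Equiv.ext fun y => ?_
      rcases eq_or_ne y none with rfl | hy
      · rw [Equiv.swap_apply_left, e]
      rcases eq_or_ne y (some 0) with rfl | hy'
      · rw [Equiv.swap_apply_right, e1']
      obtain ⟨q, rfl⟩ := hss y hy hy'
      rw [Equiv.swap_apply_of_ne_of_ne hy hy', hfix]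
  have hΦs : Function.Surjective Φ := by
    rintro ⟨σ, hσ⟩
    let π : Equiv.Perm (Option (Option α)) := σ.optionCongr.optionCongr
    let τ0 : Equiv.Perm GolayPt := E.permCongr π
    have hτ0 : ∀ x, τ0 (E x) = E (π x) := fun x => by simp [τ0]
    have hsmul : ∀ W : Finset (Option (Option α)), τ0 • W.image E = (π • W).image E := smul_image E π
    let g : Option (Option α) ≃ Fin 24 := E.trans ptEquiv
    set S : Set (Finset GolayPt) := insert ((lift t true).image E) ((fun b => (up2 b).image E) '' B)
      with hSdef
    have hS : ∀ o ∈ S, o ∈ octads := by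
      rintro _ (rfl | ⟨b, hb, rfl⟩)
      · exact hY
      · exact (hE b).1 hb
    have hF : EvenFamily ((fun o => o.image ptEquiv) '' S) := by
      convert evenFamily_22 hB hα g ht hD using 1
      rw [hSdef, fam22, Set.image_insert_eq, Set.image_image]
      simp only [Finset.image_image]
      rfl
    have hbl : ∀ b ∈ B, π • up2 b = up2 (σ • b) ∧ σ • b ∈ B := fun b hb => by
      refine ⟨(Finset.eq_of_subset_of_card_le (fun y hy => ?_) (by simp [card_up])), ?_⟩
      · obtain ⟨x, hx, rfl⟩ := Finset.mem_smul_finset.1 hy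
        match x with
        | none => exact none_mem_up _
        | some none => exact some_mem_up.2 (none_mem_up _)
        | some (some q) =>
          exact some_mem_up.2 (some_mem_up.2 (Finset.smul_mem_smul_finset (a := σ)
            (some_mem_up.1 (some_mem_up.1 hx))))
      · have := Set.smul_mem_smul_set (a := σ) hb
        rwa [mem_stabilizer_iff.1 hσ] at this
    let s : Equiv.Perm GolayPt := Equiv.swap none (some 0)
    have hs0 : ∀ b : Finset α, s • (up2 b).image E = (up2 b).image E := fun b => by
      refine Finset.eq_of_subset_of_card_le (fun y hy => ?_) (by simp)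
      obtain ⟨x, hx, rfl⟩ := Finset.mem_smul_finset.1 hy
      rw [Equiv.Perm.smul_def]
      have hn : (none : GolayPt) ∈ (up2 b).image E := Finset.mem_image.2 ⟨none, none_mem_up _, h0⟩
      have hz : (some 0 : GolayPt) ∈ (up2 b).image E :=
        Finset.mem_image.2 ⟨some none, some_mem_up.2 (none_mem_up _), h1⟩
      rcases eq_or_ne x none with rfl | hxn
      · rw [Equiv.swap_apply_left]; exact hz
      rcases eq_or_ne x (some 0) with rfl | hxz
      · rw [Equiv.swap_apply_right]; exact hn
      rwa [Equiv.swap_apply_of_ne_of_ne hxn hxz]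
    set W := τ0 • (lift t true).image E with hW
    have hWc : W.card = 8 := by
      rw [hW, Finset.card_smul_finset, Finset.card_image_of_injective _ E.injective, card_lift, ht]; rfl
    have hnW : (none : GolayPt) ∈ W := by
      rw [hW, hsmul]
      refine Finset.mem_image.2 ⟨none, Finset.mem_smul_finset.2 ⟨none, ?_, rfl⟩, h0⟩
      simp [lift]
    have hzW : (some 0 : GolayPt) ∉ W := by
      rw [hW, hsmul]
      intro h
      obtain ⟨x, hx, e⟩ := Finset.mem_image.1 h
      rw [← h1] at e
      obtain rfl := E.injective e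
      obtain ⟨x', hx', e'⟩ := Finset.mem_smul_finset.1 hx
      have : x' = some none := π.injective (e'.trans rfl)
      subst this
      simp [lift] at hx'
    have hWB : ∀ b ∈ B, Even (W ∩ (up2 b).image E).card := by
      intro b hb
      obtain ⟨h, hb'⟩ := hbl _ (by
        have := Set.smul_mem_smul_set (a := σ⁻¹) hb
        rwa [inv_smul_eq_iff.2 (mem_stabilizer_iff.1 hσ).symm] at this)
      rw [smul_inv_smul] at h
      rw [hW, hsmul, ← h, ← Finset.image_inter _ _ E.injective,
        Finset.card_image_of_injective _ E.injective, ← Finset.smul_finset_inter, Finset.card_smul_finset,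
        Finset.inter_comm]
      exact hD _ (by
        have := Set.smul_mem_smul_set (a := σ⁻¹) hb
        rwa [inv_smul_eq_iff.2 (mem_stabilizer_iff.1 hσ).symm] at this)
    have finish' : ∀ r : Equiv.Perm GolayPt, (∀ b ∈ B, r • (up2 b).image E = (up2 b).image E) →
        (∀ q, r (E (some (some q))) = E (some (some q))) →
        (∀ x, r x = none ∨ r x = some 0 ↔ x = none ∨ x = some 0) →
        Even ((r • W) ∩ (lift t true).image E).card → ∃ τ, Φ τ = ⟨σ, hσ⟩ := by
      intro r hrB hrq hrp hev
      have hrW : r • W ∈ octads := mem_octads_of_even hS hF (by rw [Finset.card_smul_finset, hWc]) (by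
        rintro _ (rfl | ⟨b, hb, rfl⟩)
        · exact hev
        · show Even (r • W ∩ (up2 b).image E).card
          rw [← hrB b hb, ← Finset.smul_finset_inter, Finset.card_smul_finset]
          exact hWB b hb)
      have hM : r * τ0 ∈ M24 := mem_M24_of_family hS hF (by
        rintro _ (rfl | ⟨b, hb, rfl⟩)
        · rw [mul_smul]; exact hrW
        · rw [mul_smul, hsmul, (hbl b hb).1, hrB _ (hbl b hb).2]
          exact (hE _).1 (hbl b hb).2)
      refine ⟨⟨r * τ0, mem_pairGroup.2 ⟨hM, fun x => ?_⟩⟩, Subtype.ext (Equiv.ext fun q => hinj ?_)⟩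
      · rw [Equiv.Perm.mul_apply, hrp]
        obtain ⟨x, rfl⟩ := E.surjective x
        rw [hτ0, ← h0, ← h1, E.injective.eq_iff, E.injective.eq_iff, E.injective.eq_iff, E.injective.eq_iff]
        match x with
        | none => simp [π]
        | some none => simp [π]
        | some (some q) => simp [π]
      · show E (some (some (ρ _ q))) = E (some (some (σ q)))
        rw [hρ]
        show r (τ0 (E (some (some q)))) = _
        rw [hτ0]
        exact hrq (σ q)
    by_cases hev : Even (W ∩ (lift t true).image E).card
    · exact finish' 1 (fun b _ => one_smul _ _) (fun q => rfl) (fun x => Iff.rfl) (by rwa [one_smul])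
    · refine finish' s (fun b _ => hs0 b) (fun q => Equiv.swap_apply_of_ne_of_ne
        (fun e => hne q (Or.inl e)) (fun e => hne q (Or.inr e))) (fun x => ?_) ?_
      · rcases eq_or_ne x none with rfl | hxn
        · simp [s]
        rcases eq_or_ne x (some 0) with rfl | hxz
        · simp [s]
        simp [s, Equiv.swap_apply_of_ne_of_ne hxn hxz]
      · have hYn : (none : GolayPt) ∈ (lift t true).image E :=
          Finset.mem_image.2 ⟨none, by simp [lift], h0⟩
        have hYz : (some 0 : GolayPt) ∉ (lift t true).image E := by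
          intro h
          obtain ⟨x, hx, e⟩ := Finset.mem_image.1 h
          rw [← h1] at e
          obtain rfl := E.injective e
          simp [lift] at hx
        have key : (s • W) ∩ (lift t true).image E = (W ∩ (lift t true).image E).erase none := by
          ext y
          rw [Finset.mem_inter, Finset.mem_erase, Finset.mem_inter]
          rcases eq_or_ne y none with rfl | hyn
          · refine iff_of_false (fun h => hzW ?_) (fun h => h.1 rfl)
            obtain ⟨x, hx, e⟩ := Finset.mem_smul_finset.1 h.1
            have : x = some 0 := s.injective (e.trans (Equiv.swap_apply_right _ _).symm)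
            exact this ▸ hx
          rcases eq_or_ne y (some 0) with rfl | hyz
          · exact iff_of_false (fun h => hYz h.2) (fun h => hYz h.2.2)
          have hys : y ∈ s • W ↔ y ∈ W := by
            conv_lhs => rw [show y = s • y from (Equiv.swap_apply_of_ne_of_ne hyn hyz).symm]
            exact Finset.smul_mem_smul_finset_iff (a := s)
          rw [hys]
          exact ⟨fun h => ⟨hyn, h⟩, fun h => h.2⟩
        rw [key, Finset.card_erase_of_mem (Finset.mem_inter.2 ⟨hnW, hYn⟩)]
        rw [Nat.not_even_iff] at hev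
        rw [Nat.even_iff]
        omega
  let Ψ : pairGroup ≃* setSystemAut B := MulEquiv.ofBijective Φ ⟨hΦi, hΦs⟩
  obtain ⟨hc, H, hH, hH22⟩ := card_pairGroup
  refine ⟨(Nat.card_congr Ψ.toEquiv).symm.trans hc, ⟨fun x y => ?_⟩, H.map Ψ.toMonoidHom, ?_, ?_⟩
  · obtain ⟨m, hm, hmi⟩ := exists_map_tuple (n := 5) le_rfl
      (Fin.cons none (Fin.cons (some 0) fun i => E (some (some (x i)))))
      (Fin.cons none (Fin.cons (some 0) fun i => E (some (some (y i)))))
      (by
        refine Fin.cons_injective_iff.2 ⟨?_, Fin.cons_injective_iff.2 ⟨?_, hinj.comp x.injective⟩⟩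
        · rintro ⟨i, hi⟩
          induction i using Fin.cases with
          | zero => simp at hi
          | succ i => exact hne (x i) (Or.inl (by simpa using hi))
        · rintro ⟨i, hi⟩; exact hne (x i) (Or.inr hi))
      (by
        refine Fin.cons_injective_iff.2 ⟨?_, Fin.cons_injective_iff.2 ⟨?_, hinj.comp y.injective⟩⟩
        · rintro ⟨i, hi⟩
          induction i using Fin.cases with
          | zero => simp at hi
          | succ i => exact hne (y i) (Or.inl (by simpa using hi))
        · rintro ⟨i, hi⟩; exact hne (y i) (Or.inr hi))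
    have m0 : m none = none := by simpa using hmi 0
    have m1 : m (some 0) = some 0 := hmi 1
    have hmP : m ∈ pairGroup := mem_pairGroup.2 ⟨hm, fun z => by
      constructor
      · rintro (h | h)
        · exact Or.inl (m.injective (h.trans m0.symm))
        · exact Or.inr (m.injective (h.trans m1.symm))
      · rintro (rfl | rfl)
        · exact Or.inl m0
        · exact Or.inr m1⟩
    refine ⟨Ψ ⟨m, hmP⟩, Function.Embedding.ext fun i => hinj ?_⟩
    show E (some (some (ρ ⟨m, hmP⟩ (x i)))) = E (some (some (y i)))
    rw [hρ]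
    simpa using hmi i.succ.succ
  · exact (Subgroup.index_map_equiv H Ψ).trans hH
  · obtain ⟨hs, hc'⟩ := hH22
    let χ := H.equivMapOfInjective Ψ.toMonoidHom Ψ.injective
    refine ⟨?_, (Nat.card_congr χ.toEquiv).symm.trans hc'⟩
    haveI := hs
    exact χ.symm.isSimpleGroup

end CfsgLib.Steiner
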