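/-
The two graphs of an S(3,6,22).
-/
import Cfsg.Agent.Steiner.Count

set_option autoImplicit false

namespace CfsgLib.Steiner.Graph22

open Cfsg CfsgLib.Steiner

universe u

variable {α : Type u} [Fintype α] [DecidableEq α] {B : Set (Finset α)}

theorem inter_cases (hB : IsSteinerSystem 3 6 B) (hα : Fintype.card α = 22) {b c : Finset α}
    (hb : b ∈ B) (hc : c ∈ B) (h : c ≠ b) : (c ∩ b).card = 0 ∨ (c ∩ b).card = 2 := by
  have hp := meet_pos (Y := b) hc
  obtain ⟨-, h1, -⟩ := meet_22 hB hα hb
  have h3 : (c ∩ b).card < 3 := by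
    by_contra hh
    exact h (unique_block hB hc hb (by omega))
  interval_cases e : (c ∩ b).card <;> simp_all

/-- Blocks avoiding `b`. -/
noncomputable def away (B : Set (Finset α)) (b : Finset α) : Finset (Finset α) :=
  (blocks B).filter fun d => Disjoint d b

theorem mem_away {b d : Finset α} : d ∈ away B b ↔ d ∈ B ∧ Disjoint d b := by
  simp [away, mem_blocks]

theorem card_away (hB : IsSteinerSystem 3 6 B) (hα : Fintype.card α = 22) {b : Finset α}
    (hb : b ∈ B) : (away B b).card = 16 := by
  rw [← (meet_22 hB hα hb).1, meet]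
  refine congrArg Finset.card (Finset.filter_congr fun d _ => ?_)
  rw [Finset.card_eq_zero, Finset.disjoint_iff_inter_eq_empty]

theorem card_away_point (hB : IsSteinerSystem 3 6 B) (hα : Fintype.card α = 22) {b : Finset α}
    (hb : b ∈ B) {x : α} (hx : x ∉ b) : ((away B b).filter fun d => x ∈ d).card = 6 := by
  set Y := insert x b with hY
  have hY7 : Y.card = 7 := by rw [hY, Finset.card_insert_of_notMem hx, hB.1 b hb]
  have hinter : ∀ c : Finset α, (c ∩ Y).card = (c ∩ b).card + (if x ∈ c then 1 else 0) := fun c => by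
    by_cases h : x ∈ c
    · rw [hY, Finset.inter_insert_of_mem h,
        Finset.card_insert_of_notMem (fun h' => hx (Finset.mem_inter.1 h').2), if_pos h]
    · rw [hY, Finset.inter_insert_of_notMem h, if_neg h, Nat.add_zero]
  have hz : ∀ j, 4 ≤ j → j ≠ 6 → meet B Y j = 0 := fun j hj hj6 => by
    rw [meet, Finset.card_eq_zero, Finset.filter_eq_empty_iff]
    intro c hc e
    rw [hinter] at e
    by_cases hcb : c = b
    · subst hcb
      rw [Finset.inter_self, hB.1 c hb, if_neg hx] at e
      omega
    · have := inter_cases hB hα hb (mem_blocks.1 hc) hcb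
      split_ifs at e <;> omega
  have h6 : meet B Y 6 = 1 := by
    rw [meet, Finset.card_eq_one]
    refine ⟨b, Finset.eq_singleton_iff_unique_mem.2 ⟨Finset.mem_filter.2 ⟨mem_blocks.2 hb, by
      rw [hinter, Finset.inter_self, hB.1 b hb, if_neg hx]⟩, fun c hc => ?_⟩⟩
    obtain ⟨hc, e⟩ := Finset.mem_filter.1 hc
    by_contra hcb
    have := inter_cases hB hα hb (mem_blocks.1 hc) hcb
    rw [hinter] at e
    split_ifs at e <;> omega
  have m0 := moments hB Y (i := 0) (by omega)
  have m1 := moments hB Y (i := 1) (by omega)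
  have m2 := moments hB Y (i := 2) (by omega)
  have m3 := moments hB Y (i := 3) (by omega)
  simp [hY7, hα, Finset.sum_range_succ, Nat.choose_eq_descFactorial_div_factorial,
    Nat.descFactorial_succ, Nat.factorial, hz 4, hz 5, hz 7, h6] at m0 m1 m2 m3
  have h1 : ((away B b).filter fun d => x ∈ d).card = meet B Y 1 := by
    rw [meet, away, Finset.filter_filter]
    refine congrArg Finset.card (Finset.filter_congr fun d hd => ?_)
    rw [hinter, Finset.disjoint_iff_inter_eq_empty, ← Finset.card_eq_zero]
    by_cases hdb : d = b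
    · subst hdb
      simp [hx, hB.1 d hb]
    · have := inter_cases hB hα hb (mem_blocks.1 hd) hdb
      split_ifs with h <;> simp only [h, and_true, and_false, false_iff] <;> omega
  omega

/-- Blocks avoiding two blocks. -/
theorem common_away (hB : IsSteinerSystem 3 6 B) (hα : Fintype.card α = 22) {b c : Finset α}
    (hb : b ∈ B) (hc : c ∈ B) (hne : b ≠ c) :
    (away B b ∩ away B c).card = if Disjoint b c then 0 else 4 := by
  have hsum : ∑ d ∈ away B b, (d ∩ c).card = 6 * (c \ b).card := by
    have e : ∀ d ∈ away B b, (d ∩ c).card = ∑ x ∈ c \ b, if x ∈ d then 1 else 0 := fun d hd => by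
      rw [← Finset.card_filter]
      refine congrArg Finset.card (Finset.ext fun x => ?_)
      simp only [Finset.mem_inter, Finset.mem_filter, Finset.mem_sdiff]
      exact ⟨fun h => ⟨⟨h.2, fun hxb => Finset.disjoint_left.1 (mem_away.1 hd).2 h.1 hxb⟩, h.1⟩,
        fun h => ⟨h.2, h.1.1⟩⟩
    rw [Finset.sum_congr rfl e, Finset.sum_comm, Finset.sum_congr rfl (g := fun _ => 6),
      Finset.sum_const, smul_eq_mul, Nat.mul_comm]
    intro x hx
    rw [← Finset.card_filter]
    exact card_away_point hB hα hb (Finset.mem_sdiff.1 hx).2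
  have hval : ∀ d ∈ away B b, (d ∩ c).card =
      (if d = c then 6 else 0) + if d ≠ c ∧ ¬ Disjoint d c then 2 else 0 := fun d hd => by
    by_cases hdc : d = c
    · subst hdc; simp [hB.1 d hc]
    · have := inter_cases hB hα hc (mem_away.1 hd).1 hdc
      by_cases hj : Disjoint d c
      · simp [hdc, hj, Finset.disjoint_iff_inter_eq_empty.1 hj]
      · have : (d ∩ c).card ≠ 0 := fun h => hj (Finset.disjoint_iff_inter_eq_empty.2 (Finset.card_eq_zero.1 h))
        simp [hdc, hj]
        omega
  rw [Finset.sum_congr rfl hval, Finset.sum_add_distrib, Finset.sum_ite_eq', ← Finset.sum_filter,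
    Finset.sum_const, smul_eq_mul] at hsum
  have hpart : (away B b).card = (away B b ∩ away B c).card +
      ((away B b).filter fun d => d ≠ c ∧ ¬ Disjoint d c).card + (if c ∈ away B b then 1 else 0) := by
    have hcc : ¬ Disjoint c c := fun h => by
      have := disjoint_self.1 h
      have h6 := hB.1 c hc
      rw [this] at h6
      simp at h6
    have e1 : away B b ∩ away B c = (away B b).filter fun d => Disjoint d c := by
      ext d
      simp only [Finset.mem_inter, Finset.mem_filter, mem_away]
      tauto
    rw [← Finset.sum_ite_eq' (away B b) c (fun _ => 1), e1, Finset.card_filter, Finset.card_filter,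
      ← Finset.sum_add_distrib, ← Finset.sum_add_distrib, Finset.card_eq_sum_ones]
    refine Finset.sum_congr rfl fun d _ => ?_
    by_cases hdc : d = c
    · subst hdc; rw [if_neg hcc, if_neg (by simp), if_pos rfl]
    · by_cases hj : Disjoint d c <;> simp [hdc, hj]
  rw [card_away hB hα hb] at hpart
  have h4 : (c \ b).card + (c ∩ b).card = 6 := by rw [Finset.card_sdiff_add_card_inter, hB.1 c hc]
  by_cases hd : Disjoint b c
  · have hca : c ∈ away B b := mem_away.2 ⟨hc, hd.symm⟩
    have : (c ∩ b).card = 0 := by rw [Finset.disjoint_iff_inter_eq_empty.1 hd.symm, Finset.card_empty]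
    rw [if_pos hca] at hsum hpart
    rw [if_pos hd]
    omega
  · have hca : c ∉ away B b := fun h => hd (mem_away.1 h).2.symm
    have : (c ∩ b).card = 2 := (inter_cases hB hα hb hc hne.symm).resolve_left fun h =>
      hd (Finset.disjoint_iff_inter_eq_empty.2 (Finset.card_eq_zero.1 h)).symm
    rw [if_neg hca] at hsum hpart
    rw [if_neg hd]
    omega

theorem ncard_sub (p : Finset α → Prop) [DecidablePred p] :
    {b : B | p b.1}.ncard = ((blocks B).filter p).card := by
  rw [← Set.ncard_image_of_injective _ Subtype.val_injective, ← Set.ncard_coe_finset]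
  refine congrArg Set.ncard (Set.ext fun b => ?_)
  simp [mem_blocks, and_comm]

theorem card_blocks (hB : IsSteinerSystem 3 6 B) (hα : Fintype.card α = 22) : Nat.card B = 77 := by
  have h := card_containing hB (X := (∅ : Finset α)) (by simp)
  simp [hα, Nat.choose_eq_descFactorial_div_factorial, Nat.descFactorial_succ, Nat.factorial] at h
  rw [Nat.card_coe_set_eq, Set.ncard_eq_toFinset_card _ (Set.toFinite B)]
  unfold blocks at h
  omega

theorem card_through (hB : IsSteinerSystem 3 6 B) (hα : Fintype.card α = 22) (x : α) :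
    ((blocks B).filter fun b => x ∈ b).card = 21 := by
  have h := card_containing hB (X := {x}) (by simp)
  simp [hα, Nat.choose_eq_descFactorial_div_factorial, Nat.descFactorial_succ, Nat.factorial] at h
  omega

theorem card_through_two (hB : IsSteinerSystem 3 6 B) (hα : Fintype.card α = 22) {x y : α}
    (hxy : x ≠ y) : ((blocks B).filter fun b => x ∈ b ∧ y ∈ b).card = 5 := by
  have h := card_containing hB (X := {x, y}) (by simp [Finset.card_pair hxy])
  simp [Finset.card_pair hxy, hα, Finset.insert_subset_iff,
    Nat.choose_eq_descFactorial_div_factorial, Nat.descFactorial_succ, Nat.factorial] at h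
  omega

theorem block_ne_empty (hB : IsSteinerSystem 3 6 B) (b : B) : ¬ Disjoint b.1 b.1 := fun h => by
  have h6 := hB.1 b.1 b.2
  rw [disjoint_self.1 h] at h6
  simp at h6

omit [Fintype α] [DecidableEq α] in
theorem blockGraph_adj (hB : IsSteinerSystem 3 6 B) (b c : B) :
    (blockGraph B).Adj b c ↔ Disjoint b.1 c.1 := by
  classical
  simp only [blockGraph, SimpleGraph.fromRel_adj]
  refine ⟨fun h => h.2.elim id fun h' => Disjoint.symm h', fun h => ⟨fun e => ?_, Or.inl h⟩⟩
  subst e
  have h6 := hB.1 b.1 b.2
  rw [disjoint_self.1 h] at h6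
  simp at h6

theorem ncard_eq_sum {δ : Type*} [Fintype δ] (Y : Set δ) [DecidablePred (· ∈ Y)] :
    Y.ncard = ∑ x, if x ∈ Y then 1 else 0 := by
  rw [Finset.sum_boole, Nat.cast_id, ← Set.ncard_coe_finset]
  exact congrArg Set.ncard (Set.ext fun x => by simp)

omit [DecidableEq α] in
/-- Counting in the three kinds of vertices. -/
theorem ncard_split {γ : Type*} [Fintype γ] (X : Set (Option (α ⊕ γ))) [Decidable (none ∈ X)] :
    X.ncard = (if none ∈ X then 1 else 0) + {a | some (Sum.inl a) ∈ X}.ncard +
      {c | some (Sum.inr c) ∈ X}.ncard := by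
  classical
  rw [ncard_eq_sum X, ncard_eq_sum {a | some (Sum.inl a) ∈ X}, ncard_eq_sum {c | some (Sum.inr c) ∈ X},
    Fintype.sum_option, Fintype.sum_sum_type, Nat.add_assoc]
  simp only [Set.mem_setOf_eq]
  congr

end CfsgLib.Steiner.Graph22
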